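import Cfsg.Agent.LinClasses.Main
import Cfsg.Agent.Lib.Cores.Basic

/-!
# Classes of solvable linear groups modulo the Fitting subgroup in characteristic `p`
-/

set_option autoImplicit false

namespace Cfsg.Agent.BlockBound

open Cores LinClasses ClassNumber

universe u w

local notation "Fit" => Cfsg.fittingSubgroup

variable {G : Type u} [Group G] {p : ℕ} [hp : Fact p.Prime]

/-- a quotient by a `p`-radical, mapped onto -/
theorem bd_of_pCore_bot [Finite G] {b : ℕ} (h : Cfsg.pCore p G = ⊥)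
    (hb : Bd ((G ⧸ Cfsg.pCore p G) ⧸ Fit (G ⧸ Cfsg.pCore p G)) b) : Bd (G ⧸ Fit G) b := by
  haveI : (Cfsg.pCore p G).Normal := Cfsg.Agent.Cores.pCore_normal p
  let e : G ⧸ Cfsg.pCore p G ≃* G :=
    (QuotientGroup.quotientMulEquivOfEq h).trans QuotientGroup.quotientBot
  have hle : Fit (G ⧸ Cfsg.pCore p G) ≤ (Fit G).comap e.toMonoidHom :=
    Subgroup.map_le_iff_le_comap.1 (map_fittingSubgroup_le (f := e.toMonoidHom) e.surjective)
  refine hb.of_surjective (QuotientGroup.map _ _ e.toMonoidHom hle) fun y => ?_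
  obtain ⟨x, rfl⟩ := QuotientGroup.mk_surjective y
  obtain ⟨z, rfl⟩ := e.surjective x
  exact ⟨QuotientGroup.mk z, rfl⟩

variable (p) in
/-- the bound in a given dimension -/
def MainP (k : Type) [Field k] (n : ℕ) : Prop :=
  ∀ (G : Type u) [Group G] [Finite G] (V : Type w) [AddCommGroup V] [Module k V]
    [FiniteDimensional k V] (ρ : Representation k G V), Group.IsSolvable G →
      Function.Injective ρ → Module.finrank k V = n →
        Bd ((G ⧸ Cfsg.pCore p G) ⧸ Fit (G ⧸ Cfsg.pCore p G)) (3 ^ (n - 1))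

variable {k : Type} [Field k]

/-- a semisimple-like image in smaller dimension -/
theorem image_core [Finite G] [Group.IsSolvable G] {U : Type w} [AddCommGroup U] [Module k U]
    [FiniteDimensional k U] (σ : Representation k G U) {n : ℕ}
    (ih : ∀ m < n, MainP.{u, w} p k m) (hU : Module.finrank k U < n) :
    Bd (((G ⧸ σ.ker) ⧸ Cfsg.pCore p (G ⧸ σ.ker)) ⧸ Fit ((G ⧸ σ.ker) ⧸ Cfsg.pCore p (G ⧸ σ.ker)))
      (3 ^ (Module.finrank k U - 1)) := by
  have hs : Group.IsSolvable (G ⧸ σ.ker) :=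
    solvable_of_surjective (QuotientGroup.mk'_surjective σ.ker)
  let τ : Representation k (G ⧸ σ.ker) U := QuotientGroup.lift σ.ker σ le_rfl
  have hi : Function.Injective τ := by
    intro a b
    obtain ⟨a, rfl⟩ := QuotientGroup.mk_surjective a
    obtain ⟨b, rfl⟩ := QuotientGroup.mk_surjective b
    intro hab
    change σ a = σ b at hab
    refine QuotientGroup.eq.2 (MonoidHom.mem_ker.2 ?_)
    rw [map_mul, ← hab, ← map_mul, inv_mul_cancel, map_one]
  exact ih _ hU (G ⧸ σ.ker) U τ hs hi rfl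

/-- radicals of a family of images meet in the radical -/
theorem core_family [Finite G] {ι : Type*} [Fintype ι] {V : ι → Type w}
    [∀ i, AddCommGroup (V i)] [∀ i, Module k (V i)] (σ : ∀ i, Representation k G (V i))
    (hker : ∀ g, (∀ i, σ i g = 1) → ∃ a : ℕ, g ^ p ^ a = 1) (g : G)
    (hg : ∀ i, (QuotientGroup.mk g : G ⧸ (σ i).ker) ∈ Cfsg.pCore p (G ⧸ (σ i).ker)) :
    g ∈ Cfsg.pCore p G := by
  haveI : ∀ i, (Cfsg.pCore p (G ⧸ (σ i).ker)).Normal := fun i => Cfsg.Agent.Cores.pCore_normal p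
  set R : Subgroup G := ⨅ i, (Cfsg.pCore p (G ⧸ (σ i).ker)).comap (QuotientGroup.mk' (σ i).ker)
  haveI : R.Normal := Subgroup.normal_iInf_normal fun i => inferInstance
  have hR : IsPGroup p R := by
    intro x
    have h1 : ∀ i, ∃ a : ℕ, (QuotientGroup.mk (x : G) : G ⧸ (σ i).ker) ^ p ^ a = 1 := fun i => by
      obtain ⟨a, ha⟩ := pCore_isPGroup p
        (⟨_, Subgroup.mem_iInf.1 x.2 i⟩ : Cfsg.pCore p (G ⧸ (σ i).ker))
      exact ⟨a, by simpa using congrArg Subtype.val ha⟩
    choose a ha using h1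
    obtain ⟨b, hb⟩ := hker ((x : G) ^ p ^ (∑ i, a i)) fun i => by
      refine MonoidHom.mem_ker.1 ((QuotientGroup.eq_one_iff (N := (σ i).ker) _).1 ?_)
      obtain ⟨c, hc⟩ := Nat.exists_eq_add_of_le
        (Finset.single_le_sum (fun j _ => Nat.zero_le (a j)) (Finset.mem_univ i))
      rw [hc, QuotientGroup.mk_pow, pow_add, pow_mul, ha i, one_pow]
    refine ⟨∑ i, a i + b, Subtype.ext ?_⟩
    rw [pow_add, pow_mul]
    simpa using hb
  exact le_pCore hR (Subgroup.mem_iInf.2 hg)

/-- the bound from a jointly almost injective family -/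
theorem bd_core_family [Finite G] {ι : Type*} [Fintype ι] {V : ι → Type w}
    [∀ i, AddCommGroup (V i)] [∀ i, Module k (V i)] (σ : ∀ i, Representation k G (V i))
    (hker : ∀ g, (∀ i, σ i g = 1) → ∃ a : ℕ, g ^ p ^ a = 1) (b : ι → ℕ)
    (hb : ∀ i, Bd (((G ⧸ (σ i).ker) ⧸ Cfsg.pCore p (G ⧸ (σ i).ker)) ⧸
      Fit ((G ⧸ (σ i).ker) ⧸ Cfsg.pCore p (G ⧸ (σ i).ker))) (b i)) :
    Bd ((G ⧸ Cfsg.pCore p G) ⧸ Fit (G ⧸ Cfsg.pCore p G)) (∏ i, b i) := by
  haveI : (Cfsg.pCore p G).Normal := Cfsg.Agent.Cores.pCore_normal p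
  haveI : ∀ i, (Cfsg.pCore p (G ⧸ (σ i).ker)).Normal := fun i => Cfsg.Agent.Cores.pCore_normal p
  let f : ∀ i, G →* (G ⧸ (σ i).ker) ⧸ Cfsg.pCore p (G ⧸ (σ i).ker) := fun i =>
    (QuotientGroup.mk' _).comp (QuotientGroup.mk' (σ i).ker)
  have hle : ∀ i, Cfsg.pCore p G ≤ (f i).ker := fun i x hx => by
    refine MonoidHom.mem_ker.2 ((QuotientGroup.eq_one_iff _).2 ?_)
    exact map_pCore_le (QuotientGroup.mk'_surjective (σ i).ker) p (Subgroup.mem_map_of_mem _ hx)
  refine bd_fitting_family (fun i => QuotientGroup.lift _ (f i) (hle i)) (fun i y => ?_) ?_ b hb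
  · obtain ⟨q, rfl⟩ := QuotientGroup.mk_surjective y
    obtain ⟨x, rfl⟩ := QuotientGroup.mk_surjective q
    exact ⟨QuotientGroup.mk x, rfl⟩
  · intro y hy
    obtain ⟨x, rfl⟩ := QuotientGroup.mk_surjective y
    exact (QuotientGroup.eq_one_iff x).2
      (core_family σ hker x fun i => (QuotientGroup.eq_one_iff _).1 (hy i))

variable [CharP k p] {V : Type w} [AddCommGroup V] [Module k V]

/-- reducible groups -/
theorem reducible_core [Finite G] [Group.IsSolvable G] [FiniteDimensional k V]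
    (ρ : Representation k G V) (hinj : Function.Injective ρ) {n : ℕ}
    (hn : Module.finrank k V = n) (ih : ∀ m < n, MainP.{u, w} p k m) (W : Submodule k V)
    (hW : ∀ g, ∀ x ∈ W, ρ g x ∈ W) (h0 : W ≠ ⊥) (h1 : W ≠ ⊤) :
    Bd ((G ⧸ Cfsg.pCore p G) ⧸ Fit (G ⧸ Cfsg.pCore p G)) (3 ^ (n - 1)) := by
  have hd := W.finrank_quotient_add_finrank
  have hW0 : 0 < Module.finrank k W := by
    rw [Module.finrank_pos_iff]
    exact Submodule.nontrivial_iff_ne_bot.2 h0
  have hW1 : Module.finrank k W < n := hn ▸ Submodule.finrank_lt h1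
  rw [hn] at hd
  let r : Representation k G W :=
    { toFun := fun g => (ρ g).restrict (hW g)
      map_one' := LinearMap.ext fun x => Subtype.ext (by simp)
      map_mul' := fun a b => LinearMap.ext fun x => Subtype.ext (by simp) }
  let q : Representation k G (V ⧸ W) :=
    { toFun := fun g => W.mapQ W (ρ g) fun x hx => hW g x hx
      map_one' := LinearMap.ext fun x => by obtain ⟨x, rfl⟩ := W.mkQ_surjective x; simp
      map_mul' := fun a b => LinearMap.ext fun x => by obtain ⟨x, rfl⟩ := W.mkQ_surjective x; simp }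
  let Vs : Bool → Type w := fun b => if b then W else V ⧸ W
  have key : ∀ g, r g = 1 → q g = 1 → g ^ p = 1 := by
    intro g e1 e2
    set N : Module.End k V := ρ g - 1 with hN
    have h2 : ∀ x, N x ∈ W := fun x => by
      have := LinearMap.congr_fun e2 (W.mkQ x)
      rw [Module.End.one_apply] at this
      exact (Submodule.Quotient.eq W).1 this
    have h3 : ∀ x, x ∈ W → N x = 0 := fun x hx => by
      have := congrArg Subtype.val (LinearMap.congr_fun e1 ⟨x, hx⟩)
      exact sub_eq_zero.2 this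
    have hpow : ∀ (j : ℕ) x, ρ (g ^ j) x = x + (j : k) • N x := by
      intro j
      induction j with
      | zero => intro x; simp
      | succ j ihj =>
        intro x
        have hρg : ∀ y, ρ g y = y + N y := fun y => by simp [hN]
        rw [pow_succ', map_mul, Module.End.mul_apply, ihj, hρg, map_add, map_smul,
          h3 _ (h2 x), smul_zero, add_zero, Nat.cast_succ, add_smul, one_smul]
        abel
    refine hinj (LinearMap.ext fun x => ?_)
    rw [hpow p x, CharP.cast_eq_zero, zero_smul, add_zero, map_one, Module.End.one_apply]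
  let M₁ := r.ker
  let M₂ := q.ker
  haveI : (Cfsg.pCore p G).Normal := Cfsg.Agent.Cores.pCore_normal p
  haveI : (Cfsg.pCore p (G ⧸ M₁)).Normal := Cfsg.Agent.Cores.pCore_normal p
  haveI : (Cfsg.pCore p (G ⧸ M₂)).Normal := Cfsg.Agent.Cores.pCore_normal p
  let N : Bool → Subgroup G := fun b =>
    bif b then (Cfsg.pCore p (G ⧸ M₁)).comap (QuotientGroup.mk' M₁)
    else (Cfsg.pCore p (G ⧸ M₂)).comap (QuotientGroup.mk' M₂)
  have hN : ∀ x, x ∈ N true → x ∈ N false → x ∈ Cfsg.pCore p G := by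
    intro x hx₁ hx₂
    haveI : (N true ⊓ N false).Normal := by
      haveI : (N true).Normal := inferInstanceAs ((Cfsg.pCore p (G ⧸ M₁)).comap _).Normal
      haveI : (N false).Normal := inferInstanceAs ((Cfsg.pCore p (G ⧸ M₂)).comap _).Normal
      infer_instance
    refine le_pCore (N := N true ⊓ N false) ?_ ⟨hx₁, hx₂⟩
    intro y
    obtain ⟨a, ha⟩ := pCore_isPGroup p (⟨_, y.2.1⟩ : Cfsg.pCore p (G ⧸ M₁))
    obtain ⟨b, hb⟩ := pCore_isPGroup p (⟨_, y.2.2⟩ : Cfsg.pCore p (G ⧸ M₂))
    have ha' : (QuotientGroup.mk (y : G) : G ⧸ M₁) ^ p ^ a = 1 := by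
      simpa using congrArg Subtype.val ha
    have hb' : (QuotientGroup.mk (y : G) : G ⧸ M₂) ^ p ^ b = 1 := by
      simpa using congrArg Subtype.val hb
    refine ⟨a + b + 1, Subtype.ext ?_⟩
    rw [pow_succ, pow_mul]
    refine key _ (MonoidHom.mem_ker.1 ((QuotientGroup.eq_one_iff (N := M₁) _).1 ?_))
      (MonoidHom.mem_ker.1 ((QuotientGroup.eq_one_iff (N := M₂) _).1 ?_))
    · rw [SubmonoidClass.coe_pow, QuotientGroup.mk_pow, pow_add, pow_mul, ha', one_pow]
    · rw [SubmonoidClass.coe_pow, QuotientGroup.mk_pow, add_comm, pow_add, pow_mul, hb', one_pow]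
  let L : Bool → Type u := fun b => G ⧸ N b
  haveI : ∀ b, (N b).Normal := fun b => by
    cases b
    · exact inferInstanceAs ((Cfsg.pCore p (G ⧸ M₂)).comap _).Normal
    · exact inferInstanceAs ((Cfsg.pCore p (G ⧸ M₁)).comap _).Normal
  have hle : ∀ b, Cfsg.pCore p G ≤ N b := fun b x hx => by
    cases b
    · exact map_pCore_le (QuotientGroup.mk'_surjective M₂) p (Subgroup.mem_map_of_mem _ hx)
    · exact map_pCore_le (QuotientGroup.mk'_surjective M₁) p (Subgroup.mem_map_of_mem _ hx)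
  let c : Bool → ℕ := fun b => bif b then 3 ^ (Module.finrank k W - 1)
    else 3 ^ (Module.finrank k (V ⧸ W) - 1)
  refine (bd_fitting_family
    (fun b => QuotientGroup.map (Cfsg.pCore p G) (N b) (MonoidHom.id G) (hle b)) ?_ ?_ c ?_).mono ?_
  · intro b y
    obtain ⟨x, rfl⟩ := QuotientGroup.mk_surjective y
    exact ⟨QuotientGroup.mk x, rfl⟩
  · intro y hy
    obtain ⟨x, rfl⟩ := QuotientGroup.mk_surjective y
    exact (QuotientGroup.eq_one_iff x).2
      (hN x ((QuotientGroup.eq_one_iff x).1 (hy true)) ((QuotientGroup.eq_one_iff x).1 (hy false)))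
  · have tr : ∀ {M : Subgroup G} [M.Normal] [(Cfsg.pCore p (G ⧸ M)).Normal] {e : ℕ}
        (Q : Subgroup G) [Q.Normal], Q = (Cfsg.pCore p (G ⧸ M)).comap (QuotientGroup.mk' M) →
        Bd (((G ⧸ M) ⧸ Cfsg.pCore p (G ⧸ M)) ⧸ Fit ((G ⧸ M) ⧸ Cfsg.pCore p (G ⧸ M))) e →
        Bd ((G ⧸ Q) ⧸ Fit (G ⧸ Q)) e := by
      intro M _ _ e Q _ hQ hB
      let g : G →* (G ⧸ M) ⧸ Cfsg.pCore p (G ⧸ M) := (QuotientGroup.mk' _).comp (QuotientGroup.mk' M)
      have hgk : g.ker = Q := by
        rw [hQ]; ext z; exact QuotientGroup.eq_one_iff (N := Cfsg.pCore p (G ⧸ M)) _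
      let ε : (G ⧸ M) ⧸ Cfsg.pCore p (G ⧸ M) ≃* G ⧸ Q :=
        (QuotientGroup.quotientKerEquivOfSurjective g ((QuotientGroup.mk'_surjective _).comp
          (QuotientGroup.mk'_surjective M))).symm.trans (QuotientGroup.quotientMulEquivOfEq hgk)
      refine hB.of_surjective (QuotientGroup.map _ _ ε.toMonoidHom
        (Subgroup.map_le_iff_le_comap.1 (map_fittingSubgroup_le (f := ε.toMonoidHom) ε.surjective)))
        fun y => ?_
      obtain ⟨x, rfl⟩ := QuotientGroup.mk_surjective y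
      obtain ⟨z, rfl⟩ := ε.surjective x
      exact ⟨QuotientGroup.mk z, rfl⟩
    intro b
    cases b
    · exact tr (N false) rfl (image_core q ih (by omega))
    · exact tr (N true) rfl (image_core r ih hW1)
  · rw [Fintype.prod_bool]
    simp only [c, cond_true, cond_false, ← pow_add]
    exact Nat.pow_le_pow_right (by norm_num) (by omega)

/-- irreducible groups have trivial `p`-radical -/
theorem pCore_eq_bot [IsAlgClosed k] [Finite G] [FiniteDimensional k V] [Nontrivial V]
    (ρ : Representation k G V) (hinj : Function.Injective ρ) (hirr : Irr ρ) :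
    Cfsg.pCore p G = ⊥ := by
  haveI : (Cfsg.pCore p G).Normal := Cfsg.Agent.Cores.pCore_normal p
  by_contra hne
  haveI : Nontrivial (Cfsg.pCore p G) := (Subgroup.nontrivial_iff_ne_bot _).2 hne
  haveI := (pCore_isPGroup (G := G) p).center_nontrivial
  set A : Subgroup G := (Subgroup.center (Cfsg.pCore p G)).map (Cfsg.pCore p G).subtype
  haveI : A.Normal := Cores.normal_map_subtype _ _
  have hAc : ∀ a ∈ A, ∀ b ∈ A, a * b = b * a := by
    rintro _ ⟨a, ha, rfl⟩ _ ⟨b, hb, rfl⟩
    exact congrArg Subtype.val (Subgroup.mem_center_iff.1 hb a)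
  obtain ⟨χ, x, hx, hχ⟩ := AltSection.exists_common_eigen (fun a : A => ρ (a : G))
    fun a b v => by
      rw [← Module.End.mul_apply, ← map_mul, hAc a a.2 b b.2, map_mul, Module.End.mul_apply]
  have hfix : ∀ a : A, ρ (a : G) x = x := by
    intro a
    obtain ⟨y, -, hy⟩ := a.2
    obtain ⟨j, hj⟩ := pCore_isPGroup p y
    have hpow : ∀ i : ℕ, ρ ((a : G) ^ i) x = χ a ^ i • x := fun i => by
      induction i with
      | zero => simp
      | succ i ihi =>
        rw [pow_succ', map_mul, Module.End.mul_apply, ihi, map_smul, hχ, smul_smul, pow_succ]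
    have h1 := hpow (p ^ j)
    rw [← hy, Subgroup.coe_subtype, ← SubmonoidClass.coe_pow, hj, OneMemClass.coe_one, map_one,
      Module.End.one_apply] at h1
    have h2 : χ a ^ p ^ j = 1 := smul_left_injective k hx (by simpa using h1.symm)
    have h3 : (χ a - 1) ^ p ^ j = 0 := by rw [sub_pow_char_pow, h2, one_pow, sub_self]
    rw [hχ, sub_eq_zero.1 (eq_zero_of_pow_eq_zero h3), one_smul]
  let W : Submodule k V := ⨅ a : A, LinearMap.ker (ρ (a : G) - 1)
  have hWm : ∀ {y : V}, y ∈ W ↔ ∀ a : A, ρ (a : G) y = y := fun {y} => by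
    simp [W, Submodule.mem_iInf, sub_eq_zero]
  rcases hirr W (fun g y hy => hWm.2 fun a => by
      have := congrArg (ρ g) (hWm.1 hy ⟨g⁻¹ * a * g, by
        simpa using (inferInstance : A.Normal).conj_mem _ a.2 g⁻¹⟩)
      rw [map_mul, map_mul] at this
      simp only [Module.End.mul_apply, rho_inv_apply'] at this
      exact this) with h | h
  · exact hx ((Submodule.eq_bot_iff _).1 h x (hWm.2 hfix))
  · obtain ⟨z, hz⟩ := exists_ne (1 : Subgroup.center (Cfsg.pCore p G))
    refine hz (Subtype.ext (Subtype.ext (hinj (LinearMap.ext fun y => ?_))))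
    rw [OneMemClass.coe_one, OneMemClass.coe_one, map_one, Module.End.one_apply]
    exact hWm.1 (h ▸ Submodule.mem_top) ⟨_, (z : Cfsg.pCore p G), z.2, rfl⟩

theorem mainP (k : Type) [Field k] [CharP k p] [IsAlgClosed k] :
    ∀ n, MainP.{u, w} p k n := by
  intro n
  induction n using Nat.strong_induction_on with
  | h n ih => ?_
  intro G _ _ V _ _ _ ρ hsol hinj hn
  haveI := hsol
  haveI : (Cfsg.pCore p G).Normal := Cfsg.Agent.Cores.pCore_normal p
  rcases Nat.eq_zero_or_pos n with rfl | hpos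
  · haveI : Subsingleton V := Module.finrank_zero_iff.1 hn
    haveI : Subsingleton G := ⟨fun a b => hinj (LinearMap.ext fun x => Subsingleton.elim _ _)⟩
    haveI : Subsingleton (G ⧸ Cfsg.pCore p G) := Quotient.instSubsingletonQuotient _
    refine Bd.of_card ((Finite.card_le_one_iff_subsingleton.2
      (Quotient.instSubsingletonQuotient _)).trans (Nat.one_le_pow _ _ (by norm_num)))
  haveI : Nontrivial V := Module.nontrivial_of_finrank_pos (R := k) (by omega)
  by_cases hirr : Irr ρ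
  swap
  · simp only [Irr, not_forall, not_or] at hirr
    obtain ⟨W, hW, h0, h1⟩ := hirr
    exact reducible_core ρ hinj hn ih W hW h0 h1
  have hcore := pCore_eq_bot (p := p) ρ hinj hirr
  suffices h : Bd (G ⧸ Fit G) (3 ^ (n - 1)) by
    let e : G ≃* G ⧸ Cfsg.pCore p G :=
      QuotientGroup.quotientBot.symm.trans (QuotientGroup.quotientMulEquivOfEq hcore.symm)
    refine h.of_surjective (QuotientGroup.map _ _ e.toMonoidHom
      (Subgroup.map_le_iff_le_comap.1 (map_fittingSubgroup_le (f := e.toMonoidHom) e.surjective)))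
      fun y => ?_
    obtain ⟨x, rfl⟩ := QuotientGroup.mk_surjective y
    obtain ⟨z, rfl⟩ := e.surjective x
    exact ⟨QuotientGroup.mk z, rfl⟩
  by_cases hqp : ∀ A : Subgroup G, A.Normal → (∀ a ∈ A, ∀ b ∈ A, a * b = b * a) → A ≤ scalarSub ρ
  · exact quasiprimitive_bd ρ hinj hn hqp
  push Not at hqp
  obtain ⟨A, hA, hAc, hAns⟩ := hqp
  haveI := hA
  obtain ⟨E, _, π, U, hinv, hne, hsum, hpos', hlt, hjoint⟩ :=
    imprimitive_data ρ hn hirr A hAc hAns
  let σ : (i : E) → Representation k π.ker (U i) := fun i =>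
    resHom' (ρ.comp π.ker.subtype) (U i) fun b x hx => hinv i b x hx
  have hK : Cfsg.pCore p π.ker = ⊥ := by
    refine (Subgroup.map_eq_bot_iff_of_injective _ π.ker.subtype_injective).1 (le_bot_iff.1 ?_)
    exact (map_pCore_subtype_le p π.ker).trans hcore.le
  haveI : ∀ i, (Cfsg.pCore p (π.ker ⧸ (σ i).ker)).Normal := fun i => Cfsg.Agent.Cores.pCore_normal p
  refine imprimitive_combine π
    (fun i => (QuotientGroup.mk' (Cfsg.pCore p (π.ker ⧸ (σ i).ker))).comp
      (QuotientGroup.mk' (σ i).ker))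
    (fun i => (QuotientGroup.mk'_surjective _).comp (QuotientGroup.mk'_surjective _))
    (fun b hb => ?_) _ hpos' (fun i => image_core (σ i) (fun m hm => ih m hm) (hlt i)) hsum
  have hmem := core_family σ (fun g hg => ⟨0, ?_⟩) b
    fun i => (QuotientGroup.eq_one_iff _).1 (hb i)
  · rwa [hK, Subgroup.mem_bot] at hmem
  · rw [pow_zero, pow_one]
    refine Subtype.ext (hinj ?_)
    rw [OneMemClass.coe_one, map_one]
    exact hjoint _ fun i x hx => congrArg Subtype.val (LinearMap.congr_fun (hg i) ⟨x, hx⟩)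

end Cfsg.Agent.BlockBound
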