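import Cfsg.Agent.BlockBound.Solvable
import Cfsg.Agent.Lib.Blocks.HeightBound
import Cfsg.Agent.Lib.Blocks.InvariantCore
import Cfsg.Agent.Lib.CharTheory.RelMcKay.GoodClasses
import Cfsg.Agent.S4435
import Cfsg.Agent.S4436

/-!
# The number of characters in a block of a solvable group
-/

set_option autoImplicit false

namespace Cfsg.Agent.BlockBound

open Cfsg.Agent.Characters Cfsg.Agent.BlockCharsA.NormalSupport
open Cfsg.Agent.CharTheory Cfsg.Agent.Blocks Cfsg.Agent.Blocks.FongReynolds

universe u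

variable {p : ℕ} {M : Ideal Cfsg.AlgInt}

/-- characters over an invariant character -/
theorem card_over_le {G : Type u} [Group G] [Finite G] {N : Subgroup G} [N.Normal] [Fintype N]
    (θ : Cfsg.IrrCharacter N) (hinv : ∀ g : G, conjIrr g θ = θ) :
    Nat.card {χ : Cfsg.IrrCharacter G //
      Cfsg.classInner (fun n : N => (χ : G → ℂ) n) (θ : N → ℂ) ≠ 0} ≤
      Nat.card (ConjClasses (G ⧸ N)) := by
  classical
  set θ' := RelMcKay.ext0 N (θ : N → ℂ) with hθ'
  have hirr : RelMcKay.Irr N θ' := by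
    rw [RelMcKay.Irr, hθ', RelMcKay.res_ext0]; exact θ.2
  have hi : ∀ g, RelMcKay.Inv N θ' g := by
    intro g h hh
    rw [hθ', RelMcKay.ext0_apply N _ hh,
      RelMcKay.ext0_apply N _ ((inferInstance : N.Normal).conj_mem h hh g)]
    have := congrArg (fun ψ : Cfsg.IrrCharacter N => (ψ : N → ℂ) ⟨h, hh⟩) (hinv g)
    simpa only [coe_conjIrr, Clifford.conjBy_apply] using this
  have h := RelMcKay.card_over hirr hi
  have hle : Nat.card (RelMcKay.GoodClass N θ') ≤ Nat.card (ConjClasses (G ⧸ N)) :=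
    Nat.card_le_card_of_injective (fun c : RelMcKay.GoodClass N θ' => c.1) Subtype.val_injective
  refine le_trans (le_of_eq ?_) (h.le.trans hle)
  refine Nat.card_congr (Equiv.subtypeEquivRight fun χ => ?_)
  rw [RelMcKay.mult_eq, hθ', RelMcKay.res_ext0]
  rfl

theorem block_bound_aux (hM : Cfsg.IsPModular p M) [Fact p.Prime] : ∀ n : ℕ,
    ∀ (G : Type u) [Group G] [Finite G], Nat.card G ≤ n → Group.IsSolvable G →
      ∀ (B : Set (Cfsg.IrrCharacter G)), Cfsg.IsPBlock M B →
        Set.ncard B ≤ 3 ^ (Cfsg.blockDefect p B - 1) * p ^ Cfsg.blockDefect p B := by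
  intro n
  induction n with
  | zero => intro G _ _ h; exact absurd h (Nat.not_le.2 Nat.card_pos)
  | succ n ih =>
    intro G _ _ hn hsol B hB
    classical
    haveI := hsol
    haveI := Fintype.ofFinite G
    have hp : p.Prime := Fact.out
    obtain ⟨N, hN⟩ : ∃ N, N = Cfsg.pPrimeCore p G := ⟨_, rfl⟩
    haveI : N.Normal := hN ▸ Cores.pPrimeCore_normal p
    haveI := Fintype.ofFinite N
    have hNp : ¬ p ∣ Nat.card N := hN ▸ PLocal.Cores.not_dvd_card_pPrimeCore hp.ne_one
    obtain ⟨χ, hχ⟩ := block_nonempty hM hB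
    obtain ⟨θ, hθ⟩ := exists_under (N := N) χ
    have hb : Cfsg.IsPBlock M ({θ} : Set (Cfsg.IrrCharacter N)) :=
      ⟨θ, Set.ext fun η => ⟨fun h => (Set.mem_singleton_iff.1 h).symm ▸ mem_blockOf_self hM θ,
        fun h => Set.mem_singleton_iff.2 (sameBlock_eq_of_coprime hM hNp (mem_blockOf.1 h)).symm⟩⟩
    let T : Subgroup G :=
      { carrier := {g | conjIrr g θ = θ}
        one_mem' := conjIrr_one θ
        mul_mem' := fun {a b} ha hb => by
          show conjIrr (a * b) θ = θ
          rw [← conjIrr_conjIrr, show conjIrr a θ = θ from ha, show conjIrr b θ = θ from hb]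
        inv_mem' := fun {a} ha => by
          show conjIrr a⁻¹ θ = θ
          conv_lhs => rw [← show conjIrr a θ = θ from ha, conjIrr_conjIrr, mul_inv_cancel]
          rw [conjIrr_one] }
    by_cases hT : ∀ g : G, conjIrr g θ = θ
    · have hsolv := PLocal.SolvableSeparable.isPSolvable_of_isSolvable p G
      obtain ⟨B₀, hB₀, hmem, hall, -⟩ := InvariantCore.invariant_block hM hsolv hN θ hT
      obtain rfl : B = B₀ := block_eq_of_mem hM hB hB₀ hχ ((hmem χ).2 hθ)
      obtain ⟨P⟩ := (inferInstance : Nonempty (Sylow p G))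
      have hd := card_defectGroup hM hB (hall P)
      rw [P.card_eq_multiplicity] at hd
      have hd' := Nat.pow_right_injective hp.two_le hd
      have hO : Cfsg.pPrimeCore p (G ⧸ N) = ⊥ := by
        subst hN; exact Cores.pPrimeCore_quotient_self p
      haveI : Group.IsSolvable (G ⧸ N) :=
        Group.isSolvable_of_surjective (QuotientGroup.mk'_surjective N)
      have hq : (Nat.card (G ⧸ N)).factorization p = (Nat.card G).factorization p := by
        rw [Subgroup.card_eq_card_quotient_mul_card_subgroup N,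
          Nat.factorization_mul Nat.card_pos.ne' Nat.card_pos.ne', Finsupp.add_apply,
          Nat.factorization_eq_zero_of_not_dvd hNp, add_zero]
      rw [← hd', ← hq]
      refine le_trans ?_ (solvable_bound hO)
      refine le_trans (le_of_eq ?_) (card_over_le θ hT)
      rw [← Nat.card_coe_set_eq]
      exact Nat.card_congr (Equiv.subtypeEquivRight hmem)
    · push Not at hT
      obtain ⟨g₀, hg₀⟩ := hT
      have hTlt : Nat.card T < Nat.card G := by
        refine lt_of_le_of_ne (Nat.card_le_card_of_injective _ T.subtype_injective) fun h => hg₀ ?_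
        have : g₀ ∈ T := by rw [(Subgroup.card_eq_iff_eq_top T).1 h]; trivial
        exact this
      have hNT : N ≤ T := fun m hm => Subtype.ext (funext fun x => by
        rw [coe_conjIrr, Clifford.conjBy_apply]
        exact irr_isClassFunction θ x ⟨m, hm⟩)
      have hs : ∀ g : G, g ∈ T ↔ ∀ η ∈ ({θ} : Set (Cfsg.IrrCharacter N)),
          ∀ η' : Cfsg.IrrCharacter N, (∀ x : N, (η' : N → ℂ) x = (η : N → ℂ)
            ⟨g * x * g⁻¹, (inferInstance : N.Normal).conj_mem x x.2 g⟩) →
            η' ∈ ({θ} : Set (Cfsg.IrrCharacter N)) := by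
        intro g
        constructor
        · rintro hg η rfl η' h
          exact Set.mem_singleton_iff.2 ((Subtype.ext (funext h)).trans (show conjIrr g η = η from hg))
        · intro h
          exact Set.mem_singleton_iff.1 (h θ rfl (conjIrr g θ) fun x => rfl)
      have hs' : ∀ g : G, g ∈ T ↔ ∀ η ∈ ({θ} : Set (Cfsg.IrrCharacter N)),
          conjIrr g η ∈ ({θ} : Set (Cfsg.IrrCharacter N)) := fun g =>
        ⟨fun hg η hη => by rw [Set.mem_singleton_iff.1 hη]; exact hg, fun h => h θ rfl⟩
      haveI := Fintype.ofFinite T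
      obtain ⟨h1, -, h3⟩ := Cfsg.Agent.S4435.result p M hM N {θ} hb T hs hNT
      obtain ⟨B', hB', hcov, hind⟩ := h3 B hB ⟨χ, hχ, θ, rfl, hθ⟩
      obtain ⟨B₁, hi₁, -, -, hmem⟩ := h1 B' hB' hcov
      obtain rfl : B₁ = B := isInduced_unique hM hi₁ hind
      obtain ⟨ψ₀, hψ₀, θ₀, hθ₀, h₀⟩ := id hcov
      have hall : ∀ ψ ∈ B', CoversOnly hNT ({θ} : Set (Cfsg.IrrCharacter N)) (ψ : T → ℂ) :=
        fun ψ hψ => coversOnly_of_sameBlock hM hb hs' hNT (sameBlock_of_mem hM hB' hψ₀ hψ)
          ((coversOnly_iff_constituent hs' hNT ψ₀).2 ⟨θ₀, hθ₀, h₀⟩)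
      haveI : Group.IsSolvable T := inferInstance
      rw [blockDefect_induced hM hb hs' hNT hind hall]
      refine le_trans ?_ (ih T (by omega) inferInstance B' hB')
      have hex : ∀ χ : B₁, ∃ ψ : B', (χ.1 : G → ℂ) = Cfsg.indFun T (ψ.1 : T → ℂ) := fun χ => by
        obtain ⟨ψ, hψ, e⟩ := (mem_iff_indFun hM hb hs' hNT hind hall χ.1).1 χ.2
        exact ⟨⟨ψ, hψ⟩, e⟩
      choose F hF using hex
      rw [← Nat.card_coe_set_eq, ← Nat.card_coe_set_eq]
      exact Nat.card_le_card_of_injective F fun a b e =>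
        Subtype.ext (Subtype.ext (by rw [hF a, hF b, e]))

end Cfsg.Agent.BlockBound
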