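import Cfsg.Agent.BlockBound.RealVec
import Cfsg.Agent.S4959

/-!
# The k(GV) bound for nilpotent complements
-/

set_option autoImplicit false

namespace Cfsg.Agent.BlockBound

open scoped IsMulCommutative

universe u v

/-- real vectors in multiplicative notation, the module structure given -/
theorem realVec_mulAut_aux {p : ℕ} [Fact p.Prime] {W : Type u} [CommGroup W] [Finite W]
    [Module (ZMod p) (Additive W)] {G : Type v} [Group G] [Finite G] [Group.IsNilpotent G]
    (hG : ¬ p ∣ Nat.card G) (a : G →* MulAut W) :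
    ∃ (x : W) (U : Subgroup W) (β : W → W → ZMod p),
      (∀ h, a h x = x → ∀ y ∈ U, a h y ∈ U) ∧
      (∀ h, a h x = x → (∀ y ∈ U, a h y = y) → ∀ y, a h y = y) ∧
      (∀ y y' z, β (y * y') z = β y z + β y' z) ∧ (∀ y z z', β y (z * z') = β y z + β y z') ∧
      (∀ h, a h x = x → ∀ y ∈ U, ∀ z ∈ U, β (a h y) (a h z) = β y z) ∧
      ∀ y ∈ U, (∀ z ∈ U, β y z = 0) → y = 1 := by
  classical
  haveI : Finite (Additive W) := inferInstanceAs (Finite W)
  haveI : FiniteDimensional (ZMod p) (Additive W) := Module.Finite.of_finite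
  let ρ : Representation (ZMod p) G (Additive W) :=
    { toFun := fun g => (MonoidHom.toAdditive (a g).toMonoidHom).toZModLinearMap p
      map_one' := LinearMap.ext fun x => by simp
      map_mul' := fun g h => LinearMap.ext fun x => by simp }
  have hρ : ∀ g y, ρ g (Additive.ofMul y) = Additive.ofMul (a g y) := fun g y => rfl
  obtain ⟨x, U, β, -, -, hi, hf, hb, hd⟩ := realVec_nilpotent _ ρ
    (fun h0 => hG ((ZMod.natCast_eq_zero_iff _ _).1 h0)) rfl
  refine ⟨x.toMul,
    { carrier := {u | Additive.ofMul u ∈ U}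
      one_mem' := U.zero_mem
      mul_mem' := fun ha hb => U.add_mem ha hb
      inv_mem' := fun ha => U.neg_mem ha },
    fun y z => β (Additive.ofMul y) (Additive.ofMul z), ?_, ?_, ?_, ?_, ?_, ?_⟩
  · intro h hh y hy
    have := hi h ((hρ h x.toMul).trans (congrArg Additive.ofMul hh)) _ hy
    exact this
  · intro h hh hall y
    have := hf h ((hρ h x.toMul).trans (congrArg Additive.ofMul hh)) fun z hz =>
      (hρ h z.toMul).trans (congrArg Additive.ofMul (hall z.toMul hz))
    exact Additive.ofMul.injective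
      ((hρ h y).symm.trans (LinearMap.congr_fun this (Additive.ofMul y)))
  · intro y y' z
    simp only [ofMul_mul, map_add, LinearMap.add_apply]
  · intro y z z'
    simp only [ofMul_mul, map_add]
  · intro h hh y hy z hz
    exact hb h ((hρ h x.toMul).trans (congrArg Additive.ofMul hh)) _ hy _ hz
  · intro y hy h0
    exact Additive.ofMul.injective (hd _ hy fun z hz => h0 z.toMul hz)

/-- real vectors in multiplicative notation -/
theorem realVec_mulAut {p : ℕ} [Fact p.Prime] {W : Type u} [CommGroup W] [Finite W]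
    (hexp : ∀ w : W, w ^ p = 1) {G : Type v} [Group G] [Finite G] [Group.IsNilpotent G]
    (hG : ¬ p ∣ Nat.card G) (a : G →* MulAut W) :
    ∃ (x : W) (U : Subgroup W) (β : W → W → ZMod p),
      (∀ h, a h x = x → ∀ y ∈ U, a h y ∈ U) ∧
      (∀ h, a h x = x → (∀ y ∈ U, a h y = y) → ∀ y, a h y = y) ∧
      (∀ y y' z, β (y * y') z = β y z + β y' z) ∧ (∀ y z z', β y (z * z') = β y z + β y z') ∧
      (∀ h, a h x = x → ∀ y ∈ U, ∀ z ∈ U, β (a h y) (a h z) = β y z) ∧
      ∀ y ∈ U, (∀ z ∈ U, β y z = 0) → y = 1 := by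
  letI : Module (ZMod p) (Additive W) := AddCommGroup.zmodModule fun x => by
    show Additive.ofMul (x.toMul ^ p) = 0
    rw [hexp x.toMul]
    rfl
  exact realVec_mulAut_aux hG a

/-- an elementary abelian self-centralising normal Sylow subgroup with nilpotent quotient -/
theorem kgv_nilpotent {X : Type u} [Group X] [Finite X] (p : ℕ) [Fact p.Prime] (V : Subgroup X)
    [V.Normal] (hab : ∀ a ∈ V, ∀ b ∈ V, a * b = b * a) (hexp : ∀ v ∈ V, v ^ p = 1)
    (hidx : ¬ p ∣ V.index) (hself : Subgroup.centralizer (V : Set X) = V)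
    (hnil : Group.IsNilpotent (X ⧸ V)) : Nat.card (ConjClasses X) ≤ Nat.card V := by
  classical
  have hp : p.Prime := Fact.out
  have hVp : IsPGroup p V := fun v => ⟨1, Subtype.ext (by simpa using hexp v v.2)⟩
  obtain ⟨e, he⟩ := IsPGroup.iff_card.1 hVp
  have hcop : (Nat.card V).Coprime V.index := by
    rw [he]; exact ((hp.coprime_iff_not_dvd).2 hidx).pow_left e
  obtain ⟨G, hG⟩ := Subgroup.exists_right_complement'_of_coprime hcop
  have hGinj : Function.Injective ((QuotientGroup.mk' V).comp G.subtype) := by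
    rw [injective_iff_map_eq_one]
    intro g hg
    have : (g : X) ∈ V ⊓ G := ⟨(QuotientGroup.eq_one_iff _).1 hg, g.2⟩
    rw [hG.disjoint.eq_bot, Subgroup.mem_bot] at this
    exact Subtype.ext this
  haveI : Group.IsNilpotent G := Group.nilpotent_of_mulEquiv (MonoidHom.ofInjective hGinj).symm
  have hGp : ¬ p ∣ Nat.card G := fun h => by
    refine hidx ?_
    rw [hG.symm.index_eq_card]
    exact h
  haveI : IsMulCommutative V := ⟨⟨fun a b => Subtype.ext (hab a a.2 b b.2)⟩⟩
  let act : G →* MulAut V := (MulAut.conjNormal : X →* MulAut V).comp G.subtype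
  have hact : ∀ (g : G) (y : V), ((act g y : V) : X) = g * y * (g : X)⁻¹ := fun g y =>
    MulAut.conjNormal_apply (g : X) y
  obtain ⟨x, U, β, hi, hf, hl, hr, hb, hd⟩ :=
    realVec_mulAut (p := p) (fun w : V => Subtype.ext (by simpa using hexp w w.2)) hGp act
  let lift : X → V := fun u => if h : u ∈ V then ⟨u, h⟩ else 1
  have hlift : ∀ y : V, lift y = y := fun y => by simp [lift, y.2]
  have hfix : ∀ h (hh : h ∈ G), h * (x : X) * h⁻¹ = x → act ⟨h, hh⟩ x = x :=
    fun h hh e => Subtype.ext ((hact ⟨h, hh⟩ x).trans e)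
  refine Cfsg.Agent.S4959.result p V hexp hidx hself G hG (x : X) x.2
    (U.map V.subtype) (Subgroup.map_subtype_le U) ?_ ?_ (fun u w => β (lift u) (lift w))
    ?_ ?_ ?_ ?_
  · rintro h hh e _ ⟨y, hy, rfl⟩
    exact ⟨act ⟨h, hh⟩ y, hi _ (hfix h hh e) _ hy, hact ⟨h, hh⟩ y⟩
  · intro h hh e hall
    have h1 := hf _ (hfix h hh e) fun y hy => Subtype.ext
      ((hact ⟨h, hh⟩ y).trans (hall _ ⟨y, hy, rfl⟩))
    have hc : h ∈ Subgroup.centralizer (V : Set X) := by
      rw [Subgroup.mem_centralizer_iff]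
      intro v hv
      have h2 := congrArg Subtype.val (h1 ⟨v, hv⟩)
      rw [hact] at h2
      change h * v * h⁻¹ = v at h2
      conv_lhs => rw [← h2, inv_mul_cancel_right]
    have : h ∈ V ⊓ G := ⟨hself ▸ hc, hh⟩
    rwa [hG.disjoint.eq_bot, Subgroup.mem_bot] at this
  · rintro _ ⟨y, -, rfl⟩ _ ⟨y', -, rfl⟩ w -
    rw [← map_mul, Subgroup.coe_subtype, hlift, hlift, hlift, hl]
  · rintro u - _ ⟨y, -, rfl⟩ _ ⟨y', -, rfl⟩
    rw [← map_mul, Subgroup.coe_subtype, hlift, hlift, hlift, hr]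
  · rintro h hh e _ ⟨y, hy, rfl⟩ _ ⟨y', hy', rfl⟩
    simp only [Subgroup.coe_subtype]
    rw [show h * (y : X) * h⁻¹ = (act ⟨h, hh⟩ y : V) from (hact ⟨h, hh⟩ y).symm,
      show h * (y' : X) * h⁻¹ = (act ⟨h, hh⟩ y' : V) from (hact ⟨h, hh⟩ y').symm,
      hlift, hlift, hlift, hlift]
    exact hb _ (hfix h hh e) _ hy _ hy'
  · rintro _ ⟨y, hy, rfl⟩ h0
    have : y = 1 := hd y hy fun z hz => by
      have := h0 _ ⟨z, hz, rfl⟩
      rwa [Subgroup.coe_subtype, hlift, hlift] at this
    rw [this, map_one]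

end Cfsg.Agent.BlockBound
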