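import Cfsg.Agent.Lib.Cores.Nilpotent
import Mathlib

/-!
# Real vectors for nilpotent groups of order prime to the characteristic

For a finite nilpotent group acting on a finite vector space in coprime characteristic there is a
vector `v` and a submodule `U ∋ v` for the stabilizer of `v`, faithful for its image and carrying
an invariant nondegenerate pairing.
-/

set_option autoImplicit false

namespace Cfsg.Agent.BlockBound

universe u v w

variable {k : Type w} [Field k] {H : Type u} [Group H] {V : Type v} [AddCommGroup V] [Module k V]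

/-- a real vector -/
def RealVec (ρ : Representation k H V) : Prop :=
  ∃ (x : V) (U : Submodule k V) (β : V →ₗ[k] V →ₗ[k] k),
    x ∈ U ∧ (Nontrivial V → x ≠ 0) ∧
    (∀ h, ρ h x = x → ∀ a ∈ U, ρ h a ∈ U) ∧
    (∀ h, ρ h x = x → (∀ a ∈ U, ρ h a = a) → ρ h = 1) ∧
    (∀ h, ρ h x = x → ∀ a ∈ U, ∀ b ∈ U, β (ρ h a) (ρ h b) = β a b) ∧
    ∀ a ∈ U, (∀ b ∈ U, β a b = 0) → a = 0

/-- the action on an invariant subspace -/
def subRep (ρ : Representation k H V) (W : Submodule k V) (hW : ∀ g, ∀ x ∈ W, ρ g x ∈ W) :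
    Representation k H W where
  toFun g := (ρ g).restrict (hW g)
  map_one' := LinearMap.ext fun x => Subtype.ext (by simp)
  map_mul' a b := LinearMap.ext fun x => Subtype.ext (by simp)

@[simp] theorem subRep_apply (ρ : Representation k H V) (W : Submodule k V)
    (hW : ∀ g, ∀ x ∈ W, ρ g x ∈ W) (g : H) (x : W) : (subRep ρ W hW g x : V) = ρ g x := rfl

theorem apply_inv_apply (ρ : Representation k H V) (g : H) (x : V) : ρ g (ρ g⁻¹ x) = x := by
  rw [← Module.End.mul_apply, ← map_mul, mul_inv_cancel, map_one, Module.End.one_apply]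

theorem inv_apply_apply (ρ : Representation k H V) (g : H) (x : V) : ρ g⁻¹ (ρ g x) = x := by
  rw [← Module.End.mul_apply, ← map_mul, inv_mul_cancel, map_one, Module.End.one_apply]

/-- averaging: an invariant complement -/
theorem exists_compl [Finite H] (hk : (Nat.card H : k) ≠ 0) (ρ : Representation k H V)
    (U : Submodule k V) (hU : ∀ g, ∀ x ∈ U, ρ g x ∈ U) :
    ∃ W : Submodule k V, (∀ g, ∀ x ∈ W, ρ g x ∈ W) ∧ IsCompl U W := by
  classical
  haveI := Fintype.ofFinite H
  obtain ⟨π, hπ⟩ := U.subtype.exists_leftInverse_of_injective (Submodule.ker_subtype U)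
  have hπ' : ∀ y : U, π y = y := fun y => LinearMap.congr_fun hπ y
  let P : V →ₗ[k] V := (Nat.card H : k)⁻¹ • ∑ g : H, (ρ g⁻¹).comp (U.subtype.comp (π.comp (ρ g)))
  have hP : ∀ x, P x = (Nat.card H : k)⁻¹ • ∑ g : H, ρ g⁻¹ (π (ρ g x) : V) := fun x => by
    simp [P, LinearMap.sum_apply]
  have hPU : ∀ x, P x ∈ U := fun x => by
    rw [hP]
    exact U.smul_mem _ (U.sum_mem fun g _ => hU _ _ (π (ρ g x)).2)
  have hPid : ∀ y ∈ U, P y = y := fun y hy => by
    rw [hP, Finset.sum_congr rfl fun g _ => show ρ g⁻¹ (π (ρ g y) : V) = y by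
      rw [show (π (ρ g y) : V) = ρ g y from congrArg Subtype.val (hπ' ⟨_, hU g y hy⟩),
        inv_apply_apply]]
    rw [Finset.sum_const, Finset.card_univ, ← Nat.card_eq_fintype_card, ← Nat.cast_smul_eq_nsmul k,
      inv_smul_smul₀ hk]
  have hPc : ∀ h x, P (ρ h x) = ρ h (P x) := fun h x => by
    rw [hP, hP, map_smul, map_sum]
    congr 1
    refine Fintype.sum_equiv (Equiv.mulRight h) _ _ fun g => ?_
    rw [Equiv.coe_mulRight, mul_inv_rev, map_mul, map_mul, Module.End.mul_apply,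
      Module.End.mul_apply, apply_inv_apply]
  refine ⟨LinearMap.ker P, fun g x hx => ?_, ?_⟩
  · rw [LinearMap.mem_ker] at hx ⊢
    rw [hPc, hx, map_zero]
  · refine ⟨Submodule.disjoint_def.2 fun y hy hy' => ?_, codisjoint_iff.2 (eq_top_iff.2 ?_)⟩
    · rw [← hPid y hy]; exact hy'
    · intro x _
      refine Submodule.mem_sup.2 ⟨P x, hPU x, x - P x, ?_, add_sub_cancel _ _⟩
      rw [LinearMap.mem_ker, map_sub, hPid _ (hPU x), sub_self]

/-- two complementary invariant subspaces -/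
theorem RealVec.compl (ρ : Representation k H V) {U W : Submodule k V}
    (hU : ∀ g, ∀ x ∈ U, ρ g x ∈ U) (hW : ∀ g, ∀ x ∈ W, ρ g x ∈ W) (hc : IsCompl U W)
    (h1 : RealVec (subRep ρ U hU)) (h2 : RealVec (subRep ρ W hW)) : RealVec ρ := by
  obtain ⟨x₁, U₁, β₁, hx₁, hn₁, hi₁, hf₁, hb₁, hd₁⟩ := h1
  obtain ⟨x₂, U₂, β₂, hx₂, hn₂, hi₂, hf₂, hb₂, hd₂⟩ := h2
  let e := Submodule.prodEquivOfIsCompl U W hc
  let a : V →ₗ[k] U := (LinearMap.fst k U W).comp e.symm.toLinearMap
  let b : V →ₗ[k] W := (LinearMap.snd k U W).comp e.symm.toLinearMap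
  have hsum : ∀ x, (a x : V) + b x = x := fun x => e.apply_symm_apply x
  have huniq : ∀ (y : U) (z : W), a ((y : V) + z) = y ∧ b ((y : V) + z) = z := fun y z => by
    have h : e.symm ((y : V) + z) = (y, z) := e.symm_apply_apply (y, z)
    exact ⟨congrArg Prod.fst h, congrArg Prod.snd h⟩
  have hcomm : ∀ g x, a (ρ g x) = subRep ρ U hU g (a x) ∧ b (ρ g x) = subRep ρ W hW g (b x) :=
    fun g x => by
      have h := huniq (subRep ρ U hU g (a x)) (subRep ρ W hW g (b x))
      rwa [subRep_apply, subRep_apply, ← map_add, hsum] at h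
  let β : V →ₗ[k] V →ₗ[k] k := β₁.compl₁₂ a a + β₂.compl₁₂ b b
  have hβ : ∀ x y, β x y = β₁ (a x) (a y) + β₂ (b x) (b y) := fun x y => rfl
  refine ⟨(x₁ : V) + x₂, U₁.comap a ⊓ U₂.comap b, β, ?_, ?_, ?_, ?_, ?_, ?_⟩
  · obtain ⟨e1, e2⟩ := huniq x₁ x₂
    exact ⟨by simpa [e1] using hx₁, by simpa [e2] using hx₂⟩
  · intro hV h0
    obtain ⟨e1, e2⟩ := huniq x₁ x₂
    rw [h0, map_zero] at e1 e2
    obtain ⟨y, hy⟩ := exists_ne (0 : V)
    by_cases hay : a y = 0
    · exact hn₂ ⟨b y, 0, fun h => hy (by rw [← hsum y, hay, h]; simp)⟩ e2.symm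
    · exact hn₁ ⟨a y, 0, hay⟩ e1.symm
  all_goals
    have hfix : ∀ h, ρ h ((x₁ : V) + x₂) = (x₁ : V) + x₂ →
        subRep ρ U hU h x₁ = x₁ ∧ subRep ρ W hW h x₂ = x₂ := fun h hh => by
      have := hcomm h ((x₁ : V) + x₂)
      rw [hh, (huniq x₁ x₂).1, (huniq x₁ x₂).2] at this
      exact ⟨this.1.symm, this.2.symm⟩
  · intro h hh y hy
    refine ⟨?_, ?_⟩
    · show a (ρ h y) ∈ U₁
      rw [(hcomm h y).1]; exact hi₁ h (hfix h hh).1 _ hy.1
    · show b (ρ h y) ∈ U₂
      rw [(hcomm h y).2]; exact hi₂ h (hfix h hh).2 _ hy.2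
  · intro h hh hall
    have q1 : subRep ρ U hU h = 1 := hf₁ h (hfix h hh).1 fun y hy => by
      have hz := huniq y 0
      rw [Submodule.coe_zero, add_zero] at hz
      have := hall y ⟨by show a (y : V) ∈ U₁; rw [hz.1]; exact hy,
        by show b (y : V) ∈ U₂; rw [hz.2]; exact U₂.zero_mem⟩
      exact Subtype.ext this
    have q2 : subRep ρ W hW h = 1 := hf₂ h (hfix h hh).2 fun y hy => by
      have hz := huniq 0 y
      rw [Submodule.coe_zero, zero_add] at hz
      have := hall y ⟨by show a (y : V) ∈ U₁; rw [hz.1]; exact U₁.zero_mem,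
        by show b (y : V) ∈ U₂; rw [hz.2]; exact hy⟩
      exact Subtype.ext this
    refine LinearMap.ext fun y => ?_
    have e1 := congrArg Subtype.val (LinearMap.congr_fun q1 (a y))
    have e2 := congrArg Subtype.val (LinearMap.congr_fun q2 (b y))
    rw [Module.End.one_apply]
    conv_lhs => rw [← hsum y, map_add]
    conv_rhs => rw [← hsum y]
    exact congrArg₂ (· + ·) e1 e2
  · intro h hh y hy z hz
    rw [hβ, hβ, (hcomm h y).1, (hcomm h z).1, (hcomm h y).2, (hcomm h z).2,
      hb₁ h (hfix h hh).1 _ hy.1 _ hz.1, hb₂ h (hfix h hh).2 _ hy.2 _ hz.2]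
  · intro y hy h0
    have q1 : a y = 0 := hd₁ _ hy.1 fun z hz => by
      have hu := huniq z 0
      rw [Submodule.coe_zero, add_zero] at hu
      have := h0 z ⟨by show a (z : V) ∈ U₁; rw [hu.1]; exact hz,
        by show b (z : V) ∈ U₂; rw [hu.2]; exact U₂.zero_mem⟩
      rwa [hβ, hu.1, hu.2, map_zero, add_zero] at this
    have q2 : b y = 0 := hd₂ _ hy.2 fun z hz => by
      have hu := huniq 0 z
      rw [Submodule.coe_zero, zero_add] at hu
      have := h0 z ⟨by show a (z : V) ∈ U₁; rw [hu.1]; exact U₁.zero_mem,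
        by show b (z : V) ∈ U₂; rw [hu.2]; exact hz⟩
      rwa [hβ, hu.1, hu.2, map_zero, zero_add] at this
    rw [← hsum y, q1, q2]
    simp

/-- the kernel may be divided out -/
theorem RealVec.of_quotient (ρ : Representation k H V) {H' : Type u} [Group H'] (π : H →* H')
    (ρ' : Representation k H' V) (he : ∀ h, ρ' (π h) = ρ h) (h : RealVec ρ') : RealVec ρ := by
  obtain ⟨x, U, β, hx, hn, hi, hf, hb, hd⟩ := h
  exact ⟨x, U, β, hx, hn, fun g hg a ha => he g ▸ hi (π g) (by rw [he]; exact hg) a ha,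
    fun g hg hall => by
      rw [← he]; exact hf (π g) (by rw [he]; exact hg) fun a ha => by rw [he]; exact hall a ha,
    fun g hg a ha b hb' => by
      rw [← he]; exact hb (π g) (by rw [he]; exact hg) a ha b hb', hd⟩

/-- a self-centralising abelian normal subgroup -/
theorem exists_selfcentral [Finite H] [Group.IsNilpotent H] :
    ∃ A : Subgroup H, A.Normal ∧ (∀ a ∈ A, ∀ b ∈ A, a * b = b * a) ∧
      ∀ h, (∀ a ∈ A, h * a = a * h) → h ∈ A := by
  classical
  obtain ⟨A, -, ⟨hAn, hAc⟩, hmax⟩ := exists_maximal_ge_of_wellFoundedGT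
    (fun A : Subgroup H => A.Normal ∧ ∀ a ∈ A, ∀ b ∈ A, a * b = b * a) ⊥
    ⟨inferInstance, fun a ha b hb => by
      rw [Subgroup.mem_bot] at ha hb; rw [ha, hb]⟩
  refine ⟨A, hAn, hAc, fun h hh => ?_⟩
  by_contra hne
  haveI := hAn
  set C := Subgroup.centralizer (A : Set H)
  have hC : h ∈ C := Subgroup.mem_centralizer_iff.2 fun a ha => (hh a ha).symm
  set π := QuotientGroup.mk' A
  have hπ : Function.Surjective π := QuotientGroup.mk'_surjective A
  haveI : (C.map π).Normal := (Subgroup.normal_centralizer : C.Normal).map π hπ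
  have hCne : C.map π ≠ ⊥ := fun hb => hne (by
    have : π h ∈ C.map π := Subgroup.mem_map_of_mem π hC
    rw [hb, Subgroup.mem_bot] at this
    exact (QuotientGroup.eq_one_iff h).1 this)
  obtain ⟨⟨z, hz⟩, hz1⟩ := Subgroup.ne_bot_iff_exists_ne_one.1 (Cores.inf_center_ne_bot hCne)
  obtain ⟨c, hc, rfl⟩ := hz.1
  have hcA : c ∉ A := fun h' => hz1 (Subtype.ext ((QuotientGroup.eq_one_iff c).2 h'))
  set B := A ⊔ Subgroup.zpowers c
  have hBc : ∀ a ∈ B, ∀ b ∈ B, a * b = b * a := by
    intro x hx y hy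
    obtain ⟨a, ha, _, ⟨i, rfl⟩, rfl⟩ := Subgroup.mem_sup_of_normal_left.1 hx
    obtain ⟨b, hb, _, ⟨j, rfl⟩, rfl⟩ := Subgroup.mem_sup_of_normal_left.1 hy
    have hac : Commute a c := Subgroup.mem_centralizer_iff.1 hc a ha
    have hbc : Commute b c := Subgroup.mem_centralizer_iff.1 hc b hb
    have hab : Commute a b := hAc a ha b hb
    exact ((hab.mul_right (hac.zpow_right j)).mul_left
      ((hbc.symm.zpow_left i).mul_right ((Commute.refl c).zpow_zpow i j))).eq
  have hBn : B.Normal := ⟨fun b hb g => by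
    have hbC : π b ∈ (Subgroup.zpowers c).map π := by
      have : π b ∈ B.map π := Subgroup.mem_map_of_mem π hb
      rwa [Subgroup.map_sup, show A.map π = ⊥ by rw [Subgroup.map_eq_bot_iff, QuotientGroup.ker_mk'],
        bot_sup_eq] at this
    obtain ⟨d, ⟨i, rfl⟩, hd⟩ := hbC
    have hcen : π (g * b * g⁻¹) = π (c ^ i) := by
      have hgc : Commute (π g) (π c) := Subgroup.mem_center_iff.1 hz.2 (π g)
      rw [map_mul, map_mul, ← hd, map_zpow, (hgc.zpow_right i).eq, mul_assoc, ← map_mul,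
        mul_inv_cancel, map_one, mul_one]
    have := QuotientGroup.eq.1 hcen.symm
    have h2 := mul_mem (show c ^ i ∈ B from Subgroup.mem_sup_right ⟨i, rfl⟩)
      (show (c ^ i)⁻¹ * (g * b * g⁻¹) ∈ B from Subgroup.mem_sup_left this)
    rwa [mul_inv_cancel_left] at h2⟩
  exact hcA ((hmax ⟨hBn, hBc⟩ le_sup_left) (Subgroup.mem_sup_right (Subgroup.mem_zpowers c)))

section Irred

variable (ρ : Representation k H V) (A : Subgroup H) [hA : A.Normal]

/-- the algebra spanned by `A` -/
noncomputable def envAlg : Subalgebra k (Module.End k V) := Algebra.adjoin k (ρ '' (A : Set H))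

theorem envAlg_comm (hAc : ∀ a ∈ A, ∀ b ∈ A, a * b = b * a) :
    ∀ r ∈ envAlg ρ A, ∀ s ∈ envAlg ρ A, r * s = s * r := by
  have h1 : ∀ x ∈ ρ '' (A : Set H), ∀ y ∈ ρ '' (A : Set H), x * y = y * x := by
    rintro _ ⟨a, ha, rfl⟩ _ ⟨b, hb, rfl⟩
    rw [← map_mul, ← map_mul, hAc a ha b hb]
  intro r hr s hs
  have h2 : ∀ x ∈ ρ '' (A : Set H), Commute x s := fun x hx => by
    induction hs using Algebra.adjoin_induction with
    | mem y hy => exact h1 x hx y hy
    | algebraMap c => exact (Algebra.commutes c x).symm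
    | add y z _ _ hy hz => exact Commute.add_right hy hz
    | mul y z _ _ hy hz => exact Commute.mul_right hy hz
  induction hr using Algebra.adjoin_induction with
  | mem y hy => exact h2 y hy
  | algebraMap c => exact Algebra.commutes c s
  | add y z _ _ hy hz => exact Commute.add_left hy hz
  | mul y z _ _ hy hz => exact Commute.mul_left hy hz

theorem cj_mem (g : H) : ∀ r ∈ envAlg ρ A, ρ g * r * ρ g⁻¹ ∈ envAlg ρ A := by
  have hinv : ρ g⁻¹ * ρ g = 1 := by rw [← map_mul, inv_mul_cancel, map_one]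
  intro r hr
  induction hr using Algebra.adjoin_induction with
  | mem y hy =>
    obtain ⟨a, ha, rfl⟩ := hy
    rw [← map_mul, ← map_mul]
    exact Algebra.subset_adjoin ⟨_, hA.conj_mem a ha g, rfl⟩
  | algebraMap c =>
    rw [← Algebra.commutes c (ρ g), mul_assoc, ← map_mul, mul_inv_cancel, map_one, mul_one]
    exact (envAlg ρ A).algebraMap_mem c
  | add y z _ _ hy hz => rw [mul_add, add_mul]; exact add_mem hy hz
  | mul y z _ _ hy hz =>
    have := mul_mem hy hz
    rwa [show ρ g * y * ρ g⁻¹ * (ρ g * z * ρ g⁻¹) = ρ g * (y * z) * ρ g⁻¹ by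
      rw [show ρ g * y * ρ g⁻¹ * (ρ g * z * ρ g⁻¹) = ρ g * y * (ρ g⁻¹ * ρ g) * z * ρ g⁻¹ by
        simp only [mul_assoc], hinv]
      simp only [mul_assoc, one_mul]] at this

/-- conjugation on the algebra spanned by `A` -/
noncomputable def cjAlg (g : H) : envAlg ρ A ≃ₐ[k] envAlg ρ A :=
  AlgEquiv.ofBijective
    { toFun := fun r => ⟨ρ g * (r : Module.End k V) * ρ g⁻¹, cj_mem ρ A g r r.2⟩
      map_one' := Subtype.ext (by simp [← map_mul])
      map_mul' := fun r s => Subtype.ext (by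
        simp only [MulMemClass.coe_mul, mul_assoc]
        rw [← mul_assoc (ρ g⁻¹) (ρ g), ← map_mul, inv_mul_cancel, map_one, one_mul])
      map_zero' := Subtype.ext (by simp)
      map_add' := fun r s => Subtype.ext (by simp [mul_add, add_mul])
      commutes' := fun c => Subtype.ext (by
        show ρ g * algebraMap k (Module.End k V) c * ρ g⁻¹ = algebraMap k (Module.End k V) c
        rw [← Algebra.commutes c (ρ g), mul_assoc, ← map_mul, mul_inv_cancel, map_one, mul_one]) }
    ⟨fun r s h => by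
      have h' := congrArg Subtype.val h
      change ρ g * (r : Module.End k V) * ρ g⁻¹ = ρ g * (s : Module.End k V) * ρ g⁻¹ at h'
      refine Subtype.ext ?_
      have := congrArg (fun t => ρ g⁻¹ * t * ρ g) h'
      simpa [mul_assoc, ← mul_assoc (ρ g⁻¹) (ρ g), ← map_mul] using this,
    fun r => ⟨⟨ρ g⁻¹ * (r : Module.End k V) * ρ g, by simpa using cj_mem ρ A g⁻¹ r r.2⟩,
      Subtype.ext (by
        show ρ g * (ρ g⁻¹ * (r : Module.End k V) * ρ g) * ρ g⁻¹ = r
        simp [mul_assoc, ← mul_assoc (ρ g) (ρ g⁻¹), ← map_mul])⟩⟩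

theorem cjAlg_apply (g : H) (r : envAlg ρ A) (x : V) :
    (cjAlg ρ A g r : Module.End k V) (ρ g x) = ρ g ((r : Module.End k V) x) := by
  show ρ g ((r : Module.End k V) (ρ g⁻¹ (ρ g x))) = _
  rw [inv_apply_apply]

/-- the field case -/
theorem realVec_field [Finite k] [FiniteDimensional k V] [Nontrivial V]
    (hAc : ∀ a ∈ A, ∀ b ∈ A, a * b = b * a) (hinj : Function.Injective ρ)
    (hsc : ∀ h, (∀ a ∈ A, h * a = a * h) → h ∈ A)
    (hfield : ∀ r : envAlg ρ A, r ≠ 0 → ∃ s : envAlg ρ A, s * r = 1) : RealVec ρ := by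
  classical
  letI : CommRing (envAlg ρ A) :=
    { (inferInstance : Ring (envAlg ρ A)) with
      mul_comm := fun r s => Subtype.ext (envAlg_comm ρ A hAc r r.2 s s.2) }
  have hF : IsField (envAlg ρ A) :=
    { exists_pair_ne := ⟨0, 1, zero_ne_one⟩
      mul_comm := mul_comm
      mul_inv_cancel := fun {r} hr => by
        obtain ⟨s, hs⟩ := hfield r hr
        exact ⟨s, by rw [mul_comm, hs]⟩ }
  letI := hF.toField
  haveI : Finite (envAlg ρ A) :=
    haveI : Finite (Module.End k V) := Module.finite_of_finite k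
    Finite.of_injective _ Subtype.val_injective
  haveI : FiniteDimensional k (envAlg ρ A) := Module.Finite.of_finite
  haveI : Algebra.IsSeparable k (envAlg ρ A) := inferInstance
  obtain ⟨x₀, hx₀⟩ := exists_ne (0 : V)
  let f : envAlg ρ A →ₗ[k] V :=
    (LinearMap.applyₗ x₀).comp (envAlg ρ A).val.toLinearMap
  have hfap : ∀ r, f r = (r : Module.End k V) x₀ := fun r => rfl
  have hf : LinearMap.ker f = ⊥ := by
    rw [LinearMap.ker_eq_bot']
    intro r hr
    by_contra h0
    obtain ⟨s, hs⟩ := hfield r h0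
    refine hx₀ ?_
    have := congrArg (fun t : envAlg ρ A => (t : Module.End k V) x₀) hs
    simp only [MulMemClass.coe_mul, Module.End.mul_apply, OneMemClass.coe_one,
      Module.End.one_apply] at this
    rw [← hfap r, hr, map_zero] at this
    exact this.symm
  obtain ⟨L, hL⟩ := f.exists_leftInverse_of_injective hf
  have hL' : ∀ r, L (f r) = r := fun r => LinearMap.congr_fun hL r
  have hmove : ∀ h, ρ h x₀ = x₀ → ∀ r, ρ h (f r) = f (cjAlg ρ A h r) := fun h hh r => by
    rw [hfap, hfap]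
    conv_rhs => rw [← hh]
    exact (cjAlg_apply ρ A h r x₀).symm
  refine ⟨x₀, LinearMap.range f, (Algebra.traceForm k (envAlg ρ A)).compl₁₂ L L, ?_, fun _ => hx₀,
    ?_, ?_, ?_, ?_⟩
  · exact ⟨1, by simp [hfap]⟩
  · rintro h hh _ ⟨r, rfl⟩
    exact ⟨cjAlg ρ A h r, (hmove h hh r).symm⟩
  · intro h hh hall
    have hfix : ∀ r, cjAlg ρ A h r = r := fun r => by
      have := hall (f r) ⟨r, rfl⟩
      rw [hmove h hh r] at this
      rw [← hL' (cjAlg ρ A h r), this, hL']
    have hmem : h ∈ A := hsc h fun a ha => hinj (by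
      have e := congrArg Subtype.val (hfix ⟨ρ a, Algebra.subset_adjoin ⟨a, ha, rfl⟩⟩)
      change ρ h * ρ a * ρ h⁻¹ = ρ a at e
      rw [map_mul, map_mul]
      have := congrArg (· * ρ h) e
      simpa [mul_assoc, ← map_mul] using this)
    have h1 : f ⟨ρ h, Algebra.subset_adjoin ⟨h, hmem, rfl⟩⟩ = f 1 := by simp [hfap, hh]
    exact congrArg Subtype.val (LinearMap.ker_eq_bot.1 hf h1)
  · rintro h hh _ ⟨r, rfl⟩ _ ⟨s, rfl⟩
    simp only [LinearMap.compl₁₂_apply, hmove h hh, hL', Algebra.traceForm_apply]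
    rw [← map_mul, Algebra.trace_eq_of_algEquiv]
  · rintro _ ⟨r, rfl⟩ h0
    have : r = 0 := (traceForm_nondegenerate k (envAlg ρ A)).1 r fun s => by
      simpa [hL'] using h0 (f s) ⟨s, rfl⟩
    rw [this, map_zero]

/-- a system of imprimitivity -/
theorem realVec_blocks [Finite H] [FiniteDimensional k V] [Nontrivial V] {E : Type*} [Fintype E]
    [DecidableEq E] (σ : H → E → E) (W : E → Submodule k V) (e : E → Module.End k V)
    (hW : ∀ i, W i ≠ ⊥) (hmove : ∀ g i, ∀ x ∈ W i, ρ g x ∈ W (σ g i))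
    (hone : ∀ i, ∀ x ∈ W i, e i x = x) (hzero : ∀ i j, i ≠ j → ∀ x ∈ W j, e i x = 0)
    (hspan : ⨆ i, W i = ⊤) (i₀ : E) (htrans : ∀ i, ∃ g, σ g i₀ = i)
    (ih : ∀ (S : Subgroup H) (hS : ∀ g ∈ S, σ g i₀ = i₀),
      RealVec (subRep (ρ.comp S.subtype) (W i₀) fun g x hx => hS g g.2 ▸ hmove g i₀ x hx)) :
    RealVec ρ := by
  classical
  have hinjW : ∀ i j, ∀ x ∈ W i, x ∈ W j → x ≠ 0 → i = j := fun i j x hi hj h0 => by
    by_contra hne
    exact h0 (by rw [← hone i x hi, hzero i j hne x hj])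
  have hσ : ∀ g h i, σ (g * h) i = σ g (σ h i) := fun g h i => by
    obtain ⟨x, hx, hx0⟩ := Submodule.exists_mem_ne_zero_of_ne_bot (hW i)
    refine hinjW _ _ (ρ (g * h) x) (hmove _ _ _ hx) ?_ fun h0 => hx0 ?_
    · rw [map_mul, Module.End.mul_apply]
      exact hmove _ _ _ (hmove _ _ _ hx)
    · rw [← inv_apply_apply ρ (g * h) x, h0, map_zero]
  have hσ1 : ∀ i, σ 1 i = i := fun i => by
    obtain ⟨x, hx, hx0⟩ := Submodule.exists_mem_ne_zero_of_ne_bot (hW i)
    exact hinjW _ _ x (by simpa using hmove 1 i x hx) hx hx0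
  have hdec : ∀ x, x = ∑ i, e i x ∧ ∀ i, e i x ∈ W i := by
    intro x
    have hx : x ∈ ⨆ i, W i := hspan ▸ Submodule.mem_top
    induction hx using Submodule.iSup_induction' with
    | mem j y hy =>
      refine ⟨?_, fun i => ?_⟩
      · rw [Finset.sum_eq_single j (fun i _ hij => hzero i j hij y hy) (by simp), hone j y hy]
      · by_cases hij : i = j
        · subst hij; rw [hone i y hy]; exact hy
        · rw [hzero i j hij y hy]; exact zero_mem _
    | zero => exact ⟨by simp, fun i => by simp⟩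
    | add y z _ _ hy hz =>
      refine ⟨?_, fun i => by rw [map_add]; exact add_mem (hy.2 i) (hz.2 i)⟩
      simp only [map_add, Finset.sum_add_distrib, ← hy.1, ← hz.1]
  have hcomm : ∀ g i x, e (σ g i) (ρ g x) = ρ g (e i x) := by
    intro g i x
    conv_lhs => rw [(hdec x).1]
    rw [map_sum, map_sum, Finset.sum_eq_single i ?_ (by simp), hone _ _ (hmove _ _ _ ((hdec x).2 i))]
    intro j _ hji
    refine hzero _ _ (fun hh => hji ?_) _ (hmove _ _ _ ((hdec x).2 j))
    have := congrArg (σ g⁻¹) hh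
    rwa [← hσ, ← hσ, inv_mul_cancel, hσ1, hσ1, eq_comm] at this
  let S : Subgroup H :=
    { carrier := {g | σ g i₀ = i₀}
      one_mem' := hσ1 i₀
      mul_mem' := fun {a b} ha hb => by show σ (a * b) i₀ = i₀; rw [hσ, hb, ha]
      inv_mem' := fun {a} ha => by
        show σ a⁻¹ i₀ = i₀
        conv_lhs => rw [← show σ a i₀ = i₀ from ha, ← hσ, inv_mul_cancel, hσ1] }
  obtain ⟨x₁, U₁, β₁, hxU, hx0, hi₁, hf₁, hb₁, hd₁⟩ := ih S fun g hg => hg
  choose t ht using htrans
  have hback : ∀ i, σ (t i)⁻¹ i = i₀ := fun i => by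
    have h1 : σ (t i)⁻¹ (σ (t i) i₀) = i₀ := by rw [← hσ, inv_mul_cancel, hσ1]
    rwa [ht i] at h1
  have hcmem : ∀ i x, ρ (t i)⁻¹ (e i x) ∈ W i₀ := fun i x => by
    have h1 := hmove (t i)⁻¹ i _ ((hdec x).2 i)
    rwa [hback] at h1
  let c : E → V →ₗ[k] W i₀ := fun i =>
    LinearMap.codRestrict (W i₀) ((ρ (t i)⁻¹).comp (e i)) (hcmem i)
  have hc : ∀ i x, (c i x : V) = ρ (t i)⁻¹ (e i x) := fun i x => rfl
  have hput : ∀ i (y : W i₀) j, c j (ρ (t i) y) = if j = i then y else 0 := by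
    intro i y j
    refine Subtype.ext ?_
    have hy := hmove (t i) i₀ y y.2
    rw [ht] at hy
    rw [hc]
    split_ifs with h
    · subst h; rw [hone j _ hy, inv_apply_apply]
    · rw [hzero j i h _ hy, map_zero, Submodule.coe_zero]
  let U : Submodule k V := ⨅ i, U₁.comap (c i)
  have hU : ∀ x, x ∈ U ↔ ∀ i, c i x ∈ U₁ := fun x => Submodule.mem_iInf _
  have hputU : ∀ i, ∀ y ∈ U₁, ρ (t i) (y : V) ∈ U := fun i y hy => (hU _).2 fun j => by
    rw [hput]; split_ifs <;> simp [hy]
  let x : V := ∑ i, ρ (t i) (x₁ : V)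
  have hcx : ∀ i, c i x = x₁ := fun i => by
    rw [map_sum, Finset.sum_eq_single i (fun j _ hj => by rw [hput, if_neg (Ne.symm hj)]) (by simp),
      hput, if_pos rfl]
  let β : V →ₗ[k] V →ₗ[k] k := ∑ i, β₁.compl₁₂ (c i) (c i)
  have hβ : ∀ a b, β a b = ∑ i, β₁ (c i a) (c i b) := fun a b => by
    simp [β, LinearMap.sum_apply]
  -- transfer to the block `i₀`
  have htr : ∀ h, ρ h x = x → ∀ i, ∃ m : S,
      subRep (ρ.comp S.subtype) (W i₀) (fun g y hy => (g.2 : σ g i₀ = i₀) ▸ hmove g i₀ y hy) m x₁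
        = x₁ ∧ ∀ a, (c (σ h i) (ρ h a) : V) = ρ (m : H) (c i a) := by
    intro h hh i
    have hm : σ ((t (σ h i))⁻¹ * h * t i) i₀ = i₀ := by
      rw [hσ, ht, hσ, hback]
    have key : ∀ a, (c (σ h i) (ρ h a) : V) = ρ ((t (σ h i))⁻¹ * h * t i) (c i a) := fun a => by
      rw [hc, hc, hcomm, map_mul, map_mul, Module.End.mul_apply, Module.End.mul_apply,
        apply_inv_apply]
    refine ⟨⟨_, hm⟩, Subtype.ext ?_, key⟩
    have := key x
    rw [hh, hcx, hcx] at this
    exact this.symm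
  refine ⟨x, U, β, (hU x).2 fun i => (hcx i).symm ▸ hxU, fun _ h0 => ?_, ?_, ?_, ?_, ?_⟩
  · have h1 := hcx i₀
    rw [h0, map_zero] at h1
    obtain ⟨y, hy, hy0⟩ := Submodule.exists_mem_ne_zero_of_ne_bot (hW i₀)
    exact hx0 ⟨⟨⟨y, hy⟩, 0, fun q => hy0 (congrArg Subtype.val q)⟩⟩ h1.symm
  · intro h hh a ha
    refine (hU _).2 fun j => ?_
    obtain ⟨m, hm, key⟩ := htr h hh (σ h⁻¹ j)
    rw [← hσ, mul_inv_cancel, hσ1] at key
    rw [show c j (ρ h a) = subRep (ρ.comp S.subtype) (W i₀) _ m (c (σ h⁻¹ j) a) from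
      Subtype.ext (key a)]
    exact hi₁ m hm _ ((hU a).1 ha _)
  · intro h hh hall
    have hi0 : Nontrivial (W i₀) := by
      obtain ⟨y, hy, hy0⟩ := Submodule.exists_mem_ne_zero_of_ne_bot (hW i₀)
      exact ⟨⟨⟨y, hy⟩, 0, fun q => hy0 (congrArg Subtype.val q)⟩⟩
    have hfix : ∀ i, σ h i = i := fun i => by
      have h1 := hall _ (hputU i x₁ hxU)
      have hy := hmove (t i) i₀ x₁ x₁.2
      rw [ht] at hy
      have h2 := hmove h i _ hy
      rw [h1] at h2
      refine hinjW _ _ _ h2 hy fun h0 => hx0 hi0 (Subtype.ext ?_)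
      rw [← inv_apply_apply ρ (t i) (x₁ : V), h0, map_zero, Submodule.coe_zero]
    refine LinearMap.ext fun a => ?_
    rw [Module.End.one_apply]
    conv_lhs => rw [(hdec a).1, map_sum]
    conv_rhs => rw [(hdec a).1]
    refine Finset.sum_congr rfl fun i _ => ?_
    obtain ⟨m, hm, key⟩ := htr h hh i
    rw [hfix i] at key
    have hm1 := hf₁ m hm fun y hy => Subtype.ext (by
      have := key (ρ (t i) (y : V))
      rw [hall _ (hputU i y hy), hput, if_pos rfl] at this
      exact this.symm)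
    have h3 : ρ (m : H) (c i a : V) = c i a :=
      congrArg Subtype.val (LinearMap.congr_fun hm1 (c i a))
    have h4 := key a
    rw [h3, hc, hc] at h4
    have h5 := congrArg (ρ (t i)) h4
    rw [apply_inv_apply, apply_inv_apply] at h5
    have h6 := hcomm h i a
    rw [hfix i, h5] at h6
    exact h6.symm
  · intro h hh a ha b hb
    rw [hβ, hβ]
    let π : Equiv.Perm E := ⟨σ h, σ h⁻¹, fun i => by rw [← hσ, inv_mul_cancel, hσ1],
      fun i => by rw [← hσ, mul_inv_cancel, hσ1]⟩
    rw [← Equiv.sum_comp π]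
    refine Finset.sum_congr rfl fun i _ => ?_
    obtain ⟨m, hm, key⟩ := htr h hh i
    rw [show π i = σ h i from rfl,
      show c (σ h i) (ρ h a) = subRep (ρ.comp S.subtype) (W i₀) _ m (c i a) from Subtype.ext (key a),
      show c (σ h i) (ρ h b) = subRep (ρ.comp S.subtype) (W i₀) _ m (c i b) from Subtype.ext (key b)]
    exact hb₁ m hm _ ((hU a).1 ha i) _ ((hU b).1 hb i)
  · intro a ha h0
    have hci : ∀ i, c i a = 0 := fun i => hd₁ _ ((hU a).1 ha i) fun y hy => by
      have := h0 _ (hputU i y hy)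
      rw [hβ, Finset.sum_eq_single i (fun j _ hj => by rw [hput, if_neg hj, map_zero]) (by simp),
        hput, if_pos rfl] at this
      exact this
    rw [(hdec a).1]
    refine Finset.sum_eq_zero fun i _ => ?_
    have := congrArg (fun y : W i₀ => ρ (t i) (y : V)) (hci i)
    simpa [hc, apply_inv_apply] using this

end Irred

/-- finite nilpotent groups of order prime to the characteristic have real vectors -/
theorem realVec_nilpotent : ∀ (n : ℕ) {k : Type w} [Field k] [Finite k] {H : Type u} [Group H]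
    [Finite H] [Group.IsNilpotent H] {V : Type v} [AddCommGroup V] [Module k V] [FiniteDimensional k V]
    (ρ : Representation k H V), (Nat.card H : k) ≠ 0 → Module.finrank k V = n → RealVec ρ := by
  intro n
  induction n using Nat.strong_induction_on with
  | h n ih => ?_
  intro k _ _ H₀ _ _ _ V _ _ _ ρ₀ hk₀ hn
  classical
  by_cases hV : Nontrivial V
  swap
  · haveI : Subsingleton V := not_nontrivial_iff_subsingleton.1 hV
    exact ⟨0, ⊤, 0, trivial, fun h => absurd h hV, fun _ _ _ _ => trivial,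
      fun _ _ _ => LinearMap.ext fun x => Subsingleton.elim _ _, fun _ _ _ _ _ _ => rfl,
      fun a _ _ => Subsingleton.elim _ _⟩
  haveI := hV
  by_cases hirr : ∀ U : Submodule k V, (∀ g, ∀ x ∈ U, ρ₀ g x ∈ U) → U = ⊥ ∨ U = ⊤
  swap
  · push Not at hirr
    obtain ⟨U, hU, hU0, hU1⟩ := hirr
    obtain ⟨W, hW, hc⟩ := exists_compl hk₀ ρ₀ U hU
    refine RealVec.compl ρ₀ hU hW hc (ih _ (hn ▸ Submodule.finrank_lt hU1) _ hk₀ rfl)
      (ih _ (hn ▸ Submodule.finrank_lt fun h => hU0 ?_) _ hk₀ rfl)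
    exact (disjoint_top.1 (h ▸ hc.disjoint))
  -- the faithful quotient
  let N := ρ₀.ker
  refine RealVec.of_quotient ρ₀ (QuotientGroup.mk' N) (QuotientGroup.lift N ρ₀ le_rfl)
    (fun h => rfl) ?_
  set H := H₀ ⧸ N
  haveI : Group.IsNilpotent H := Group.nilpotent_of_surjective (QuotientGroup.mk' N) (QuotientGroup.mk'_surjective N)
  generalize hρ : (QuotientGroup.lift N ρ₀ le_rfl : Representation k H V) = ρ
  have hinj : Function.Injective ρ := by
    subst hρ
    intro a b
    obtain ⟨a, rfl⟩ := QuotientGroup.mk_surjective a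
    obtain ⟨b, rfl⟩ := QuotientGroup.mk_surjective b
    intro hab
    change ρ₀ a = ρ₀ b at hab
    refine QuotientGroup.eq.2 (MonoidHom.mem_ker.2 ?_)
    rw [map_mul, ← hab, ← map_mul, inv_mul_cancel, map_one]
  have hirr' : ∀ U : Submodule k V, (∀ g, ∀ x ∈ U, ρ g x ∈ U) → U = ⊥ ∨ U = ⊤ := fun U hU =>
    hirr U fun g x hx => by have := hU (QuotientGroup.mk g) x hx; rwa [← hρ] at this
  have hk : ∀ S : Subgroup H, (Nat.card S : k) ≠ 0 := fun S h0 => hk₀ (by
    obtain ⟨c, hc⟩ := (Subgroup.card_subgroup_dvd_card S).trans (Subgroup.card_quotient_dvd_card N)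
    rw [hc, Nat.cast_mul, h0, zero_mul])
  obtain ⟨A, hA, hAc, hsc⟩ := exists_selfcentral (H := H)
  haveI := hA
  letI : CommRing (envAlg ρ A) :=
    { (inferInstance : Ring (envAlg ρ A)) with
      mul_comm := fun r s => Subtype.ext (envAlg_comm ρ A hAc r r.2 s s.2) }
  haveI : Finite (envAlg ρ A) :=
    haveI : Finite (Module.End k V) := Module.finite_of_finite k
    Finite.of_injective _ Subtype.val_injective
  -- the annihilator of a set
  let ann : Submodule k V → Ideal (envAlg ρ A) := fun S =>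
    { carrier := {r | ∀ x ∈ S, (r : Module.End k V) x = 0}
      add_mem' := fun {r s} hr hs x hx => by simp [hr x hx, hs x hx]
      zero_mem' := fun x _ => by simp
      smul_mem' := fun c r hr x hx => by simp [hr x hx] }
  let fixd : Ideal (envAlg ρ A) → Submodule k V := fun P =>
    ⨅ r ∈ P, LinearMap.ker (r : Module.End k V)
  have hfixd : ∀ P x, x ∈ fixd P ↔ ∀ r ∈ P, (r : Module.End k V) x = 0 := fun P x => by
    simp [fixd, Submodule.mem_iInf]
  -- a maximal annihilator
  obtain ⟨P, -, hPmem, hPmax⟩ := exists_maximal_ge_of_wellFoundedGT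
    (fun P : Ideal (envAlg ρ A) => P ≠ ⊤ ∧ fixd P ≠ ⊥) ⊥
    (by
      refine ⟨bot_ne_top, fun h => ?_⟩
      obtain ⟨x, hx⟩ := exists_ne (0 : V)
      exact hx ((Submodule.eq_bot_iff _).1 h x ((hfixd _ _).2 fun r hr => by simp [Ideal.mem_bot.1 hr])))
  have hPmaxI : P.IsMaximal := by
    haveI : P.IsPrime := ⟨hPmem.1, fun {r s} hrs => by
      obtain ⟨x, hx, hx0⟩ := Submodule.exists_mem_ne_zero_of_ne_bot hPmem.2
      rw [hfixd] at hx
      by_cases hsx : (s : Module.End k V) x = 0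
      · refine Or.inr (hPmax (y := ann (Submodule.span k {x})) ⟨fun h => hx0 ?_, fun h => hx0 ?_⟩
          (fun q hq y hy => ?_) (fun y hy => ?_))
        · have := ((Ideal.eq_top_iff_one _).1 h) x (Submodule.mem_span_singleton_self x)
          simpa using this
        · exact (Submodule.eq_bot_iff _).1 h x ((hfixd _ _).2 fun q hq =>
            hq x (Submodule.mem_span_singleton_self x))
        · obtain ⟨c, rfl⟩ := Submodule.mem_span_singleton.1 hy
          rw [map_smul, hx q hq, smul_zero]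
        · obtain ⟨c, rfl⟩ := Submodule.mem_span_singleton.1 hy
          rw [map_smul, hsx, smul_zero]
      · refine Or.inl (hPmax (y := ann (Submodule.span k {(s : Module.End k V) x}))
          ⟨fun h => hsx ?_, fun h => hsx ?_⟩ (fun q hq y hy => ?_) (fun y hy => ?_))
        · have := ((Ideal.eq_top_iff_one _).1 h) _ (Submodule.mem_span_singleton_self _)
          simpa using this
        · exact (Submodule.eq_bot_iff _).1 h _ ((hfixd _ _).2 fun q hq =>
            hq _ (Submodule.mem_span_singleton_self _))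
        · obtain ⟨c, rfl⟩ := Submodule.mem_span_singleton.1 hy
          rw [map_smul, ← Module.End.mul_apply, envAlg_comm ρ A hAc q q.2 s s.2,
            Module.End.mul_apply, hx q hq, map_zero, smul_zero]
        · obtain ⟨c, rfl⟩ := Submodule.mem_span_singleton.1 hy
          rw [map_smul, ← Module.End.mul_apply, ← MulMemClass.coe_mul, hx _ hrs, smul_zero]⟩
    exact Ideal.IsPrime.isMaximal' inferInstance
  by_cases htop : fixd P = ⊤
  · -- the field case
    refine realVec_field ρ A hAc hinj hsc fun r hr => ?_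
    have hP0 : P = ⊥ := le_bot_iff.1 fun q hq => Ideal.mem_bot.2 (Subtype.ext (LinearMap.ext
      fun x => ((hfixd P x).1 (htop ▸ Submodule.mem_top) q hq)))
    exact (Ideal.Quotient.maximal_ideal_iff_isField_quotient P).1 hPmaxI |> fun hF => by
      obtain ⟨s, hs⟩ := hF.mul_inv_cancel (a := Ideal.Quotient.mk P r)
        (fun h => hr (Ideal.mem_bot.1 (hP0 ▸ Ideal.Quotient.eq_zero_iff_mem.1 h)))
      obtain ⟨s, rfl⟩ := Ideal.Quotient.mk_surjective s
      rw [← map_mul, ← map_one (Ideal.Quotient.mk P), Ideal.Quotient.eq, hP0, Ideal.mem_bot,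
        sub_eq_zero, mul_comm] at hs
      exact ⟨s, hs⟩
  -- the blocks
  let E := Set.range fun g : H => (fixd P).map (ρ g)
  haveI : Finite E := (Set.finite_range _).to_subtype
  haveI : Fintype E := Fintype.ofFinite E
  have hmap : ∀ (g h : H) (S : Submodule k V), (S.map (ρ h)).map (ρ g) = S.map (ρ (g * h)) :=
    fun g h S => by rw [← Submodule.map_comp, map_mul]; rfl
  have hann : ∀ g (r : envAlg ρ A), r ∈ ann ((fixd P).map (ρ g)) ↔ cjAlg ρ A g⁻¹ r ∈ P := by
    intro g r
    have key : ∀ y, (r : Module.End k V) (ρ g y) = ρ g ((cjAlg ρ A g⁻¹ r : Module.End k V) y) :=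
      fun y => by
        rw [← cjAlg_apply ρ A g (cjAlg ρ A g⁻¹ r) y]
        show _ = ρ g ((ρ g⁻¹ ((r : Module.End k V) (ρ g⁻¹⁻¹ _))))
        rw [inv_inv, apply_inv_apply, apply_inv_apply]
    constructor
    · intro hr
      by_contra hnot
      obtain ⟨y, hy, hy0⟩ := Submodule.exists_mem_ne_zero_of_ne_bot hPmem.2
      obtain ⟨a, q, hq, h1⟩ := hPmaxI.exists_inv hnot
      refine hy0 ?_
      have h2 : (1 : Module.End k V) y = 0 := by
        rw [← OneMemClass.coe_one (envAlg ρ A), ← h1, AddMemClass.coe_add, LinearMap.add_apply,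
          (hfixd P y).1 hy q hq, add_zero, MulMemClass.coe_mul, Module.End.mul_apply]
        have h3 := hr _ (Submodule.mem_map_of_mem hy)
        rw [key] at h3
        rw [show (cjAlg ρ A g⁻¹ r : Module.End k V) y = 0 from by
          rw [← inv_apply_apply ρ g ((cjAlg ρ A g⁻¹ r : Module.End k V) y), h3, map_zero], map_zero]
      simpa using h2
    · rintro hr _ ⟨y, hy, rfl⟩
      rw [key, (hfixd P y).1 hy _ hr, map_zero]
  have hmaxS : ∀ S : E, (ann S.1).IsMaximal := by
    rintro ⟨_, g, rfl⟩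
    have : ann ((fixd P).map (ρ g)) = P.comap (cjAlg ρ A g⁻¹).toRingEquiv.toRingHom :=
      Ideal.ext fun r => hann g r
    rw [this]
    exact Ideal.comap_isMaximal_of_surjective _ (cjAlg ρ A g⁻¹).surjective
  have hsep : ∀ S T : E, S ≠ T → ∃ r : envAlg ρ A,
      (∀ x ∈ S.1, (r : Module.End k V) x = x) ∧ ∀ x ∈ T.1, (r : Module.End k V) x = 0 := by
    intro S T hST
    have hne : ann T.1 ⊔ ann S.1 = ⊤ := by
      refine (hmaxS T).1.2 _ (lt_of_le_of_ne le_sup_left fun heq => hST ?_)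
      have hle : ann S.1 ≤ ann T.1 := heq.ge.trans' le_sup_right
      have heq' : ann S.1 = ann T.1 := (hmaxS S).eq_of_le (hmaxS T).ne_top hle
      have hrec : ∀ S : E, ∀ x, (∀ r ∈ ann S.1, (r : Module.End k V) x = 0) → x ∈ S.1 := by
        rintro ⟨_, g, rfl⟩ x hx
        refine ⟨ρ g⁻¹ x, (hfixd P _).2 fun q hq => ?_, apply_inv_apply ρ g x⟩
        have h1 := hx (cjAlg ρ A g q) ((hann g _).2 (by
          rw [show cjAlg ρ A g⁻¹ (cjAlg ρ A g q) = q from Subtype.ext (LinearMap.ext fun y => by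
            show ρ g⁻¹ (ρ g ((q : Module.End k V) (ρ g⁻¹ (ρ g⁻¹⁻¹ y)))) = _
            rw [inv_inv, inv_apply_apply, inv_apply_apply])]
          exact hq))
        rw [← apply_inv_apply ρ g x, cjAlg_apply] at h1
        rw [← inv_apply_apply ρ g ((q : Module.End k V) (ρ g⁻¹ x)), h1, map_zero]
      refine Subtype.ext (le_antisymm (fun x hx => hrec T x fun r hr => ?_)
        (fun x hx => hrec S x fun r hr => ?_))
      · rw [← heq'] at hr; exact hr x hx
      · rw [heq'] at hr; exact hr x hx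
    obtain ⟨r, hr, s, hs, hrs⟩ := Submodule.mem_sup.1 ((Ideal.eq_top_iff_one _).1 hne)
    refine ⟨r, fun x hx => ?_, hr⟩
    have := congrArg (fun t : envAlg ρ A => (t : Module.End k V) x) hrs
    simpa [hs x hx] using this
  choose r hr1 hr0 using hsep
  let e : E → Module.End k V := fun S =>
    ((∏ T : E, if h : S = T then 1 else r S T h : envAlg ρ A) : Module.End k V)
  have hprod : ∀ (S : E) (s : Finset E), ∀ x ∈ S.1,
      ((∏ T ∈ s, if h : S = T then 1 else r S T h : envAlg ρ A) : Module.End k V) x = x := by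
    intro S s
    induction s using Finset.induction with
    | empty => intro x _; simp
    | insert T s hT ih =>
      intro x hx
      rw [Finset.prod_insert hT, MulMemClass.coe_mul, Module.End.mul_apply, ih x hx]
      split_ifs with h
      · simp
      · exact hr1 S T h x hx
  refine realVec_blocks ρ (E := E) (fun g S => ⟨S.1.map (ρ g), by
    obtain ⟨h, hh⟩ := S.2; exact ⟨g * h, by rw [← hh, hmap]⟩⟩) (fun S => S.1) e
    ?_ (fun g S x hx => Submodule.mem_map_of_mem hx) (fun S x hx => hprod S _ x hx) ?_ ?_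
    ⟨fixd P, 1, by simp [map_one, Module.End.one_eq_id]⟩ ?_ ?_
  · rintro ⟨_, g, rfl⟩ h0
    obtain ⟨y, hy, hy0⟩ := Submodule.exists_mem_ne_zero_of_ne_bot hPmem.2
    have := (Submodule.eq_bot_iff _).1 h0 _ (Submodule.mem_map_of_mem (f := ρ g) hy)
    exact hy0 (by rw [← inv_apply_apply ρ g y, this, map_zero])
  · intro S T hST x hx
    show ((∏ T : E, if h : S = T then 1 else r S T h : envAlg ρ A) : Module.End k V) x = 0
    rw [← Finset.prod_erase_mul _ _ (Finset.mem_univ T), MulMemClass.coe_mul, Module.End.mul_apply,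
      dif_neg hST, hr0 S T hST x hx, map_zero]
  · refine (hirr' _ fun g x hx => ?_).resolve_left fun h => hPmem.2 ?_
    · induction hx using Submodule.iSup_induction' with
      | mem S y hy =>
        obtain ⟨h, hh⟩ := S.2
        exact Submodule.mem_iSup_of_mem ⟨S.1.map (ρ g), g * h, by rw [← hh, hmap]⟩
          (Submodule.mem_map_of_mem hy)
      | zero => simp
      | add y z _ _ hy hz => rw [map_add]; exact add_mem hy hz
    · exact le_bot_iff.1 (h ▸ le_iSup (fun S : E => S.1)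
        ⟨fixd P, 1, by simp [map_one, Module.End.one_eq_id]⟩)
  · rintro ⟨_, g, rfl⟩
    exact ⟨g, rfl⟩
  · intro S hS
    exact ih _ (hn ▸ Submodule.finrank_lt htop) _ (hk S) rfl

end Cfsg.Agent.BlockBound
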