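import Cfsg.Agent.BlockBound.NilKGV
import Cfsg.Agent.BlockBound.LinMod
import Cfsg.Agent.Lib.PLocal.PSolvable
import Cfsg.Agent.Lib.PLocal.SolvableSeparable
import Cfsg.Agent.Lib.PLocal.Quadratic
import Cfsg.Agent.Lib.Coprime.Commutator
import Cfsg.Agent.Lib.Cores.Fitting

/-!
# Class number of a solvable group without normal `p'`-subgroups
-/

set_option autoImplicit false

namespace Cfsg.Agent.BlockBound

open Cores LinClasses

universe u

local notation "Fit" => Cfsg.fittingSubgroup

/-- solvable linear groups over the prime field -/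
theorem linear_bound {Y : Type u} [Group Y] [Finite Y] [Group.IsSolvable Y] {p : ℕ} [Fact p.Prime]
    (hcore : Cfsg.pCore p Y = ⊥) {W : Type u} [CommGroup W] [Finite W] (hexp : ∀ w : W, w ^ p = 1)
    (a : Y →* MulAut W) (ha : Function.Injective a) {r : ℕ} (hr : Nat.card W = p ^ r) :
    Nat.card (ConjClasses (Y ⧸ Fit Y)) ≤ 3 ^ (r - 1) := by
  classical
  letI : Module (ZMod p) (Additive W) := AddCommGroup.zmodModule fun x => by
    show Additive.ofMul (x.toMul ^ p) = 0
    rw [hexp x.toMul]
    rfl
  exact (aux hcore a ha hr).self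
where
  /-- the same, with the module structure given -/
  aux {Y : Type u} [Group Y] [Finite Y] [Group.IsSolvable Y] {p : ℕ} [Fact p.Prime]
      (hcore : Cfsg.pCore p Y = ⊥) {W : Type u} [CommGroup W] [Finite W]
      [Module (ZMod p) (Additive W)] (a : Y →* MulAut W) (ha : Function.Injective a) {r : ℕ}
      (hr : Nat.card W = p ^ r) : Bd (Y ⧸ Fit Y) (3 ^ (r - 1)) := by
    classical
    haveI : Finite (Additive W) := inferInstanceAs (Finite W)
    haveI : FiniteDimensional (ZMod p) (Additive W) := Module.Finite.of_finite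
    let b := Module.finBasis (ZMod p) (Additive W)
    have hdim : Module.finrank (ZMod p) (Additive W) = r := by
      have h := Module.natCard_eq_pow_finrank (K := ZMod p) (V := Additive W)
      rw [Nat.card_zmod, show Nat.card (Additive W) = p ^ r from hr] at h
      exact (Nat.pow_right_injective (Fact.out : p.Prime).two_le h).symm
    let ρ₀ : Representation (ZMod p) Y (Additive W) :=
      { toFun := fun g => (MonoidHom.toAdditive (a g).toMonoidHom).toZModLinearMap p
        map_one' := LinearMap.ext fun x => by simp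
        map_mul' := fun g h => LinearMap.ext fun x => by simp }
    have hρ₀ : Function.Injective ρ₀ := fun g h e => ha (MulEquiv.ext fun w =>
      Additive.ofMul.injective (LinearMap.congr_fun e (Additive.ofMul w)))
    let k := AlgebraicClosure (ZMod p)
    let n := Module.finrank (ZMod p) (Additive W)
    let ψ : Representation k Y (Fin n → k) :=
      (((Matrix.toLinAlgEquiv' : Matrix (Fin n) (Fin n) k ≃ₐ[k] Module.End k (Fin n → k))
        : Matrix (Fin n) (Fin n) k →* Module.End k (Fin n → k))).comp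
      (((algebraMap (ZMod p) k).mapMatrix : Matrix (Fin n) (Fin n) (ZMod p) →+* _).toMonoidHom.comp
        (((LinearMap.toMatrixAlgEquiv b) : Module.End (ZMod p) (Additive W) →* _).comp ρ₀))
    have hψ : Function.Injective ψ := fun g h e => hρ₀ ((LinearMap.toMatrixAlgEquiv b).injective
      (Matrix.map_injective (algebraMap (ZMod p) k).injective
        ((Matrix.toLinAlgEquiv' : Matrix (Fin n) (Fin n) k ≃ₐ[k] _).injective e)))
    have hB := mainP.{u, 0} (p := p) k n Y (Fin n → k) ψ ‹_› hψ (Module.finrank_fin_fun k)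
    rw [show n = r from hdim] at hB
    exact bd_of_pCore_bot hcore hB

/-- an elementary abelian self-centralising normal `p`-subgroup -/
theorem selfcentral_bound {Q : Type u} [Group Q] [Finite Q] [Group.IsSolvable Q] {p : ℕ}
    [Fact p.Prime] (V : Subgroup Q) [V.Normal] (hab : ∀ a ∈ V, ∀ b ∈ V, a * b = b * a)
    (hexp : ∀ v ∈ V, v ^ p = 1) (hself : Subgroup.centralizer (V : Set Q) = V)
    (hcore : Cfsg.pCore p (Q ⧸ V) = ⊥) {r : ℕ} (hr : Nat.card V = p ^ r) :
    Nat.card (ConjClasses Q) ≤ p ^ r * 3 ^ (r - 1) := by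
  classical
  have hp : p.Prime := Fact.out
  set π := QuotientGroup.mk' V
  have hπ : Function.Surjective π := QuotientGroup.mk'_surjective V
  haveI : IsMulCommutative V := ⟨⟨fun a b => Subtype.ext (hab a a.2 b b.2)⟩⟩
  haveI : (Fit (Q ⧸ V)).Normal := inferInstance
  set L := (Fit (Q ⧸ V)).comap π with hL
  haveI : L.Normal := by rw [hL]; infer_instance
  have hVL : V ≤ L := fun v hv => by
    rw [hL, Subgroup.mem_comap, show π v = 1 from (QuotientGroup.eq_one_iff v).2 hv]
    exact one_mem _
  -- the Fitting part has order prime to `p`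
  have hFn : Group.IsNilpotent (Fit (Q ⧸ V)) := fittingSubgroup_isNilpotent
  have hFp : ¬ p ∣ Nat.card (Fit (Q ⧸ V)) := by
    intro hd
    haveI := hFn
    let P : Sylow p (Fit (Q ⧸ V)) := default
    haveI : (P : Subgroup (Fit (Q ⧸ V))).Characteristic :=
      P.characteristic_of_normal (P.normal_of_normalizerCondition Group.normalizerCondition_of_isNilpotent)
    haveI := Cores.normal_map_subtype (Fit (Q ⧸ V)) (P : Subgroup (Fit (Q ⧸ V)))
    have h1 : (P : Subgroup (Fit (Q ⧸ V))).map (Fit (Q ⧸ V)).subtype ≤ Cfsg.pCore p (Q ⧸ V) :=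
      le_pCore (P.isPGroup'.map _)
    rw [hcore, le_bot_iff, Subgroup.map_eq_bot_iff_of_injective _ (Subgroup.subtype_injective _)] at h1
    exact (P.ne_bot_of_dvd_card hd) h1
  -- the piece over the Fitting subgroup
  let f : L →* Fit (Q ⧸ V) := MonoidHom.codRestrict (π.comp L.subtype) _ fun x => x.2
  have hf : Function.Surjective f := fun y => by
    obtain ⟨x, hx⟩ := hπ (y : Q ⧸ V)
    exact ⟨⟨x, show π x ∈ Fit (Q ⧸ V) by rw [hx]; exact y.2⟩, Subtype.ext hx⟩
  have hfk : f.ker = V.subgroupOf L := by
    ext x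
    rw [MonoidHom.mem_ker, Subgroup.mem_subgroupOf]
    exact Subtype.ext_iff.trans (QuotientGroup.eq_one_iff _)
  let e : L ⧸ V.subgroupOf L ≃* Fit (Q ⧸ V) :=
    (QuotientGroup.quotientMulEquivOfEq hfk.symm).trans
      (QuotientGroup.quotientKerEquivOfSurjective f hf)
  haveI : (V.subgroupOf L).Normal := (inferInstance : V.Normal).subgroupOf L
  have hidx : ¬ p ∣ (V.subgroupOf L).index := by
    rw [Subgroup.index_eq_card, Nat.card_congr e.toEquiv]; exact hFp
  have hkL : Nat.card (ConjClasses L) ≤ p ^ r := by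
    haveI := hFn
    refine (kgv_nilpotent p (V.subgroupOf L) (fun a ha b hb => Subtype.ext (hab a ha b hb))
      (fun v hv => Subtype.ext (by simpa using hexp v hv)) hidx ?_
      (Group.nilpotent_of_mulEquiv e.symm)).trans_eq ?_
    · refine le_antisymm (fun x hx => ?_) (fun x hx => ?_)
      · rw [Subgroup.mem_subgroupOf, ← hself, Subgroup.mem_centralizer_iff]
        intro v hv
        exact congrArg Subtype.val
          (Subgroup.mem_centralizer_iff.1 hx ⟨v, hVL hv⟩ (Subgroup.mem_subgroupOf.2 hv))
      · exact Subgroup.mem_centralizer_iff.2 fun y hy => Subtype.ext (hab y hy x hx)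
    · rw [Nat.card_congr (Subgroup.subgroupOfEquivOfLe hVL).toEquiv, hr]
  -- the quotient
  let g : Q →* (Q ⧸ V) ⧸ Fit (Q ⧸ V) := (QuotientGroup.mk' _).comp π
  have hgk : g.ker = L := by ext x; exact QuotientGroup.eq_one_iff (N := Fit (Q ⧸ V)) _
  let e' : Q ⧸ L ≃* (Q ⧸ V) ⧸ Fit (Q ⧸ V) :=
    (QuotientGroup.quotientMulEquivOfEq hgk.symm).trans
      (QuotientGroup.quotientKerEquivOfSurjective g ((QuotientGroup.mk'_surjective _).comp hπ))
  haveI : Group.IsSolvable (Q ⧸ V) := Group.isSolvable_of_surjective hπ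
  let conj : Q →* MulAut V := MulAut.conjNormal
  have hle : V ≤ conj.ker := fun v hv => MonoidHom.mem_ker.2 (MulEquiv.ext fun w => Subtype.ext (by
    show (MulAut.conjNormal v w : Q) = w
    rw [MulAut.conjNormal_apply, hab v hv w w.2, mul_inv_cancel_right]))
  have hinj : Function.Injective (QuotientGroup.lift V conj hle) := by
    rw [injective_iff_map_eq_one]
    intro q hq
    obtain ⟨x, rfl⟩ := QuotientGroup.mk_surjective q
    refine (QuotientGroup.eq_one_iff x).2 ?_
    rw [← hself, Subgroup.mem_centralizer_iff]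
    intro v hv
    have := congrArg (fun φ : MulAut V => (φ ⟨v, hv⟩ : Q)) hq
    simp only [QuotientGroup.lift_mk, conj, MulAut.conjNormal_apply, MulAut.one_apply] at this
    conv_lhs => rw [← this, inv_mul_cancel_right]
  open scoped IsMulCommutative in
  have hY := linear_bound (p := p) hcore (W := V)
    (fun w => Subtype.ext (by simpa using hexp w w.2)) (QuotientGroup.lift V conj hle) hinj hr
  refine (Counting.Commuting.card_conjClasses_le_mul L).trans (Nat.mul_le_mul hkL ?_)
  exact (ClassNumber.card_conjClasses_le_of_surjective e'.symm.toMonoidHom e'.symm.surjective).trans hY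

/-- the class number of a solvable group with trivial `p'`-core -/
theorem solvable_bound {X : Type u} [Group X] [Finite X] [Group.IsSolvable X] {p : ℕ}
    [Fact p.Prime] (hO : Cfsg.pPrimeCore p X = ⊥) :
    Nat.card (ConjClasses X) ≤
      3 ^ ((Nat.card X).factorization p - 1) * p ^ (Nat.card X).factorization p := by
  classical
  have hp : p.Prime := Fact.out
  set F := Cfsg.pCore p X with hF
  haveI : F.Normal := Cores.pCore_normal p
  have hFp : IsPGroup p F := pCore_isPGroup p
  have hC : Subgroup.centralizer (F : Set X) ≤ F := PLocal.PSolvable.centralizer_pCore_le hO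
    (PLocal.PSolvable.subgroup (PLocal.SolvableSeparable.isPSolvable_of_isSolvable p X) _)
  set Φ := (frattini F).map F.subtype with hΦ
  haveI : Φ.Normal := Cores.normal_map_subtype F (frattini F)
  have hΦF : Φ ≤ F := Subgroup.map_subtype_le _
  set π := QuotientGroup.mk' Φ
  have hπ : Function.Surjective π := QuotientGroup.mk'_surjective Φ
  set V := F.map π with hV
  haveI : V.Normal := (inferInstance : F.Normal).map π hπ
  obtain ⟨hVc, hVexp⟩ := PLocal.Quadratic.frattini_quotient_elementary (G := X) hFp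
  have hab : ∀ a ∈ V, ∀ b ∈ V, a * b = b * a := fun a ha b hb =>
    congrArg Subtype.val (hVc.is_comm.comm ⟨a, ha⟩ ⟨b, hb⟩)
  obtain ⟨f, hf⟩ := IsPGroup.iff_card.1 hFp
  obtain ⟨r, hr⟩ := IsPGroup.iff_card.1 (hFp.map π)
  have hcom : V.comap π = F := by
    rw [hV, Subgroup.comap_map_eq, QuotientGroup.ker_mk', sup_eq_left.2 hΦF]
  -- the kernel of the action on `F ⧸ Φ`
  set K := (Subgroup.centralizer (V : Set (X ⧸ Φ))).comap π with hK
  haveI : (Subgroup.centralizer (V : Set (X ⧸ Φ))).Normal := Subgroup.normal_centralizer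
  haveI : K.Normal := by rw [hK]; infer_instance
  have hKp : IsPGroup p K := by
    refine IsPGroup.of_card (n := (Nat.card K).primeFactorsList.length)
      (Nat.eq_prime_pow_of_unique_prime_dvd Nat.card_pos.ne' fun {q} hq hqd => ?_)
    by_contra hne
    haveI : Fact q.Prime := ⟨hq⟩
    obtain ⟨x, hx⟩ := exists_prime_orderOf_dvd_card' q hqd
    have hxo : orderOf (x : X) = q := by rw [← hx, Subgroup.orderOf_coe]
    have hcx : Subgroup.zpowers (x : X) ≤ Subgroup.centralizer (F : Set X) := by
      refine Coprime.le_centralizer_of_frattini ?_ ?_ fun a ha y hy => ?_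
      · rw [Subgroup.normalizer_eq_top]; exact le_top
      · rw [Nat.card_zpowers, hxo]
        obtain ⟨b, hb⟩ := IsPGroup.iff_card.1 (hFp.to_subgroup (frattini F))
        rw [hb]
        exact Nat.Coprime.pow_right b ((Nat.coprime_primes hq hp).2 hne)
      · have haK : a ∈ K := Subgroup.zpowers_le.2 x.2 ha
        have h1 := Subgroup.mem_centralizer_iff.1 haK (π y) (Subgroup.mem_map_of_mem π hy)
        refine (QuotientGroup.eq_one_iff (N := Φ) _).1 ?_
        show π (a * y * a⁻¹ * y⁻¹) = 1
        rw [map_mul, map_mul, map_mul, map_inv, map_inv, ← h1]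
        group
    have hxF : (x : X) ∈ F := hC (hcx (Subgroup.mem_zpowers _))
    obtain ⟨j, hj⟩ := hFp ⟨_, hxF⟩
    have hd : q ∣ p ^ j := hxo ▸ orderOf_dvd_of_pow_eq_one (by simpa using congrArg Subtype.val hj)
    exact hne ((Nat.prime_dvd_prime_iff_eq hq hp).1 (hq.dvd_of_dvd_pow hd))
  have hself : Subgroup.centralizer (V : Set (X ⧸ Φ)) = V := by
    refine le_antisymm ?_ fun a ha => Subgroup.mem_centralizer_iff.2 fun b hb => hab b hb a ha
    intro y hy
    obtain ⟨x, rfl⟩ := hπ y
    exact Subgroup.mem_map_of_mem π (le_pCore hKp (show x ∈ K from hy))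
  -- the quotient has trivial radical
  let e : (X ⧸ Φ) ⧸ V ≃* X ⧸ F := QuotientGroup.quotientQuotientEquivQuotient Φ F hΦF
  have hcore : Cfsg.pCore p ((X ⧸ Φ) ⧸ V) = ⊥ := by
    rw [← Subgroup.map_eq_bot_iff_of_injective _ (f := e.toMonoidHom) e.injective,
      map_pCore_eq e p, pCore_quotient_self]
  haveI : Group.IsSolvable (X ⧸ Φ) := Group.isSolvable_of_surjective hπ
  have hQ := selfcentral_bound (p := p) V hab hVexp hself hcore hr
  have hcard : Nat.card Φ * p ^ r = p ^ f := by
    rw [← hr, ← hf, ← Cores.card_comap_mk' Φ V]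
    exact congrArg (fun K : Subgroup X => Nat.card K) hcom
  have hfd : f ≤ (Nat.card X).factorization p := by
    refine (hp.pow_dvd_iff_le_factorization Nat.card_pos.ne').1 ?_
    rw [← hf]; exact F.card_subgroup_dvd_card
  have hrf : r ≤ f := by
    refine (Nat.pow_le_pow_iff_right hp.one_lt).1 ?_
    rw [← hcard]; exact Nat.le_mul_of_pos_left _ Nat.card_pos
  refine (Counting.Commuting.card_conjClasses_le_mul Φ).trans ?_
  calc Nat.card (ConjClasses Φ) * Nat.card (ConjClasses (X ⧸ Φ))
      ≤ Nat.card Φ * (p ^ r * 3 ^ (r - 1)) :=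
        Nat.mul_le_mul (Nat.card_le_card_of_surjective _ ConjClasses.mk_surjective) hQ
    _ = p ^ f * 3 ^ (r - 1) := by rw [← hcard, mul_assoc]
    _ ≤ p ^ (Nat.card X).factorization p * 3 ^ ((Nat.card X).factorization p - 1) :=
        Nat.mul_le_mul (Nat.pow_le_pow_right hp.pos hfd)
          (Nat.pow_le_pow_right (by norm_num) (by omega))
    _ = _ := mul_comm _ _

end Cfsg.Agent.BlockBound
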